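import Groth.Agent.CMExt.Main
import Groth.Agent.FlatMor.FlatLemmas

/-!
# The converse, and the statements for a module
-/

set_option autoImplicit false

universe u

open TensorProduct CategoryTheory

namespace Groth.Agent.CMExt

variable (A : Type u) [CommRing A] {R : Type u} [CommRing R] [Algebra A R]

local notation "Fib" => EGA4.FibLocRing A R

theorem pd_shift_ring {T : Type u} [CommRing T] {K F M : Type u} [AddCommGroup K] [AddCommGroup F]
    [AddCommGroup M] [Module T K] [Module T F] [Module T M] {f : K →ₗ[T] F} {g : F →ₗ[T] M}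
    (hf : Function.Injective f) (hg : Function.Surjective g) (hfg : Function.Exact f g)
    [Module.Projective T F] (e : ℕ) :
    HasProjectiveDimensionLE (ModuleCat.of T M) (e + 1) ↔ HasProjectiveDimensionLE (ModuleCat.of T K) e :=
  (sc_shortExact hf hg hfg).hasProjectiveDimensionLT_X₃_iff e
    ((IsProjective.iff_projective _).1 (inferInstanceAs (Module.Projective T F)))

theorem pd_of_fib [Algebra.FinitePresentation A R] [Module.Flat A R] (e : ℕ) :
    ∀ (K : Type u) [AddCommGroup K] [Module R K] [Module A K] [IsScalarTower A R K]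
      [Module.FinitePresentation R K] [Module.Flat A K],
      (∀ (q : Ideal R) [q.IsPrime], HasProjectiveDimensionLE (ModuleCat.of (Fib q) (Fib q ⊗[R] K)) e) →
        HasProjectiveDimensionLE (ModuleCat.of R K) e := by
  induction e with
  | zero =>
    intro K _ _ _ _ _ _ h
    exact (RegLoc.PD.pd_zero_iff K).2 (projective_of_fib A K h)
  | succ e ih =>
    intro K _ _ _ _ _ _ h
    obtain ⟨r, π, hπ, hfk⟩ := CAlgA.RelSyzygy.exists_fp_syzygy A R K
    have : Module.Flat A (Fin r → R) := Module.Flat.trans A R _
    have : Module.Flat A (LinearMap.ker π) := CAlgA.RelSyzygy.flat_ker (π.restrictScalars A) hπ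
    exact (pd_shift_ring (Submodule.injective_subtype (LinearMap.ker π)) hπ
      (LinearMap.exact_subtype_ker_map π) e).2
      (ih (LinearMap.ker π) fun q _ => (FibCodepth.pd_fib_shift (A := A) q π hπ e).1 (h q))

/-- What the converse gives on the fibres. -/
structure FibConcl (K : Type u) [AddCommGroup K] [Module R K] [Module A K] [IsScalarTower A R K]
    {G : Type u} [AddCommGroup G] [Module R G] (w : G →ₗ[R] Module.Dual R K) (r : ℕ)
    (π : (Fin r → R) →ₗ[R] K) (e : ℕ) : Prop where
  flat : Module.Flat A (Module.Dual R (Fin r → R) ⧸ LinearMap.range (π.dualMap ∘ₗ w))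
  surj : 1 ≤ e → ∀ (q : Ideal R) [q.IsPrime], Function.Surjective (wS A w q)
  pd : ∀ (q : Ideal R) [q.IsPrime], HasProjectiveDimensionLE (ModuleCat.of (Fib q) (Fib q ⊗[R] K)) e
  van : ∀ (q : Ideal R) [q.IsPrime] (i : ℕ), 1 ≤ i → i ≠ e → Subsingleton (FE A K q i)

theorem backward [Algebra.FinitePresentation A R] [Module.Flat A R] (e : ℕ) :
    ∀ (K : Type u) [AddCommGroup K] [Module R K] [Module A K] [IsScalarTower A R K]
      [Module.FinitePresentation R K] [Module.Flat A K] (G : Type u) [AddCommGroup G] [Module R G]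
      [Module.Finite R G] (w : G →ₗ[R] Module.Dual R K) (r : ℕ) (π : (Fin r → R) →ₗ[R] K),
      Function.Surjective π → Module.FinitePresentation R (LinearMap.ker π) →
      HasProjectiveDimensionLE (ModuleCat.of R K) e →
      (∀ i, 1 ≤ i → i < e → Subsingleton (E R K i)) →
      (1 ≤ e → Function.Surjective w ∧ Module.Flat A (RestrictScalars A R (E R K e))) →
      (e = 0 → Module.Flat A (Module.Dual R K ⧸ LinearMap.range w)) → FibConcl A K w r π e := by
  induction e with
  | zero =>
    intro K _ _ _ _ _ _ G _ _ _ w r π hπ _ hpd _ _ h0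
    have := (RegLoc.PD.pd_zero_iff K).1 hpd
    obtain ⟨s, hs⟩ := Module.projective_lifting_property π LinearMap.id hπ
    refine ⟨?_, fun h => absurd h (by omega), fun q _ => (RegLoc.PD.pd_zero_iff _).2 inferInstance,
      fun q _ i hi _ => subsingleton_ext_of_projective (Fib q ⊗[R] K) i hi⟩
    have := h0 rfl
    have : Module.Flat A (Fin r → R) := Module.Flat.trans A R _
    have : Module.Flat A (Module.Dual R (Fin r → R)) := Module.Flat.trans A R _
    have hsd : s.dualMap ∘ₗ π.dualMap = LinearMap.id :=
      LinearMap.ext fun φ => LinearMap.ext fun m => congrArg φ (LinearMap.congr_fun hs m)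
    have hp : ∀ z, s.dualMap (π.dualMap (w z)) = w z := fun z => LinearMap.congr_fun hsd (w z)
    let i : (Module.Dual R K ⧸ LinearMap.range w) →ₗ[R]
        (Module.Dual R (Fin r → R) ⧸ LinearMap.range (π.dualMap ∘ₗ w)) :=
      Submodule.mapQ _ _ π.dualMap (by rintro _ ⟨z, rfl⟩; exact ⟨z, rfl⟩)
    let p : (Module.Dual R (Fin r → R) ⧸ LinearMap.range (π.dualMap ∘ₗ w)) →ₗ[R]
        (Module.Dual R K ⧸ LinearMap.range w) :=
      Submodule.mapQ _ _ s.dualMap (by rintro _ ⟨z, rfl⟩; exact ⟨z, (hp z).symm⟩)
    let t : (Module.Dual R (Fin r → R) ⧸ LinearMap.range (π.dualMap ∘ₗ w)) →ₗ[R]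
        Module.Dual R (Fin r → R) :=
      Submodule.liftQ _ (LinearMap.id - π.dualMap ∘ₗ s.dualMap) (by
        rintro _ ⟨z, rfl⟩
        rw [LinearMap.mem_ker, LinearMap.sub_apply, LinearMap.id_apply, LinearMap.comp_apply,
          LinearMap.comp_apply, hp, sub_self])
    have : Module.Flat A ((Module.Dual R K ⧸ LinearMap.range w) × Module.Dual R (Fin r → R)) :=
      FlatMor.FlatLemmas.flat_prod
    refine Module.Flat.of_retract ((p.prod t).restrictScalars A)
      ((i.coprod (LinearMap.range (π.dualMap ∘ₗ w)).mkQ).restrictScalars A) (LinearMap.ext fun x => ?_)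
    obtain ⟨φ, rfl⟩ := Submodule.Quotient.mk_surjective _ x
    change (LinearMap.range (π.dualMap ∘ₗ w)).mkQ (π.dualMap (s.dualMap φ)) +
      (LinearMap.range (π.dualMap ∘ₗ w)).mkQ (φ - π.dualMap (s.dualMap φ)) =
        (LinearMap.range (π.dualMap ∘ₗ w)).mkQ φ
    rw [← map_add, add_sub_cancel]
  | succ e ih =>
    intro K _ _ _ _ _ _ G _ _ _ w r π hπ hfk hpd hvan htop _
    obtain ⟨hw, hflat⟩ := htop (by omega)
    have : Module.Flat A (Fin r → R) := Module.Flat.trans A R _
    have hkflat : Module.Flat A (LinearMap.ker π) := CAlgA.RelSyzygy.flat_ker (π.restrictScalars A) hπ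
    obtain ⟨r', π', hπ', hfk'⟩ := CAlgA.RelSyzygy.exists_fp_syzygy A R (LinearMap.ker π)
    let ι : LinearMap.ker π →ₗ[R] (Fin r → R) := (LinearMap.ker π).subtype
    have hι : Function.Injective ι := Subtype.val_injective
    have hex : Function.Exact ι π := LinearMap.exact_subtype_ker_map π
    obtain ⟨ε1⟩ := nonempty_extOne hι hπ hex
    have C' := ih (LinearMap.ker π) (Module.Dual R (Fin r → R)) ι.dualMap r' π' hπ' hfk'
      ((pd_shift_ring hι hπ hex e).1 hpd)
      (fun i hi hie => by
        obtain ⟨j, rfl⟩ := Nat.exists_eq_add_of_le' hi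
        obtain ⟨ε⟩ := nonempty_extShift hι hπ hex j
        have := hvan (j + 2) (by omega) (by omega)
        exact ε.toEquiv.subsingleton)
      (fun he => by
        refine ⟨?_, ?_⟩
        · rw [← LinearMap.range_eq_top, ← Submodule.Quotient.subsingleton_iff]
          have := hvan 1 le_rfl (by omega)
          exact ε1.toEquiv.subsingleton
        · obtain ⟨j, rfl⟩ := Nat.exists_eq_add_of_le' he
          obtain ⟨ε⟩ := nonempty_extShift hι hπ hex j
          exact flatRS_congr A ε.symm)
      (fun he => by
        subst he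
        let e' : (Module.Dual R (LinearMap.ker π) ⧸ LinearMap.range ι.dualMap) ≃ₗ[A]
            RestrictScalars A R (E R K 1) :=
          { toFun := fun x => (RestrictScalars.addEquiv A R _).symm (ε1 x)
            invFun := fun x => ε1.symm (RestrictScalars.addEquiv A R _ x)
            map_add' := fun x y => by simp only [map_add]
            map_smul' := fun a x => by
              simp only [RingHom.id_apply]
              rw [← algebraMap_smul R a x, map_smul, RestrictScalars.addEquiv_symm_map_algebraMap_smul]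
            left_inv := fun x => by simp
            right_inv := fun x => by simp }
        exact Module.Flat.of_linearEquiv e')
    have hle : LinearMap.range (π.dualMap ∘ₗ w) ≤ LinearMap.ker (π'.dualMap ∘ₗ ι.dualMap) := by
      rintro _ ⟨z, rfl⟩
      refine LinearMap.mem_ker.2 (LinearMap.ext fun x => ?_)
      change w z (π (ι (π' x))) = 0
      rw [hex.apply_apply_eq_zero, map_zero]
    let u := Submodule.liftQ _ _ hle
    have hrange : LinearMap.range u = LinearMap.range (π'.dualMap ∘ₗ ι.dualMap) := Submodule.range_liftQ _ _ _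
    have huinj : Function.Injective u := (injective_iff_map_eq_zero u).2 fun m hm => by
      obtain ⟨φ, rfl⟩ := Submodule.Quotient.mk_surjective _ m
      have h2 : ι.dualMap φ = 0 := LinearMap.ext fun t => by
        obtain ⟨t, rfl⟩ := hπ' t
        exact LinearMap.congr_fun hm t
      have hle' : LinearMap.ker π ≤ LinearMap.ker φ := fun t ht => LinearMap.congr_fun h2 ⟨t, ht⟩
      let eq := π.quotKerEquivOfSurjective hπ
      obtain ⟨z, hz⟩ := hw (Submodule.liftQ _ φ hle' ∘ₗ eq.symm.toLinearMap)
      refine (Submodule.Quotient.mk_eq_zero _).2 ⟨z, LinearMap.ext fun t => ?_⟩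
      have : eq.symm (π t) = Submodule.Quotient.mk t := eq.injective ((eq.apply_symm_apply _).trans rfl)
      change w z (π t) = φ t
      rw [hz, LinearMap.comp_apply, LinearEquiv.coe_coe, this, Submodule.liftQ_apply]
    have : Module.Flat A (Module.Dual R (Fin r' → R)) := Module.Flat.trans A R _
    have hC'flat : Module.Flat A (Module.Dual R (Fin r' → R) ⧸ LinearMap.range u) :=
      haveI := C'.flat
      Module.Flat.of_linearEquiv ((Submodule.quotEquivOfEq _ _ hrange).restrictScalars A)
    have hC : Module.Flat A (Module.Dual R (Fin r → R) ⧸ LinearMap.range (π.dualMap ∘ₗ w)) := by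
      let m := (LinearMap.range u).mkQ.restrictScalars A
      have hm : Module.Flat A (LinearMap.ker m) :=
        CAlgA.RelSyzygy.flat_ker m (Submodule.mkQ_surjective _)
      refine Module.Flat.of_linearEquiv (LinearEquiv.ofBijective
        ((u.restrictScalars A).codRestrict (LinearMap.ker m) fun x =>
          (Submodule.Quotient.mk_eq_zero _).2 (LinearMap.mem_range_self u x))
        ⟨fun x y h => huinj (congrArg Subtype.val h), fun ⟨x, hx⟩ => ?_⟩)
      obtain ⟨y, rfl⟩ := (Submodule.Quotient.mk_eq_zero _).1 hx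
      exact ⟨y, rfl⟩
    have hSι : ∀ (q : Ideal R) [q.IsPrime], Function.Injective (ι.baseChange (Fib q)) := fun q _ =>
      FibCodepth.lTensor_fib_injective (A := A) q ι hι π hex hπ
    refine ⟨hC, fun _ q _ φ₀ => ?_, fun q _ => (FibCodepth.pd_fib_shift (A := A) q π hπ e).2 (C'.pd q),
      fun q _ i hi hie => ?_⟩
    · obtain ⟨y, hy⟩ := (bijective_psi (R := R) (Fib q) (Fin r → R)).2 ((π.baseChange (Fib q)).dualMap φ₀)
      have hinj : Function.Injective (u.baseChange (Fib q)) :=
        FibCodepth.lTensor_fib_injective (A := A) q u huinj _ (LinearMap.exact_map_mkQ_range u)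
          (Submodule.mkQ_surjective _)
      have h1 : (LinearMap.range (π.dualMap ∘ₗ w)).mkQ.baseChange (Fib q) y = 0 := by
        refine hinj ?_
        rw [map_zero, ← LinearMap.comp_apply, ← LinearMap.baseChange_comp, Submodule.liftQ_mkQ,
          LinearMap.baseChange_comp, LinearMap.comp_apply]
        refine (bijective_psi (R := R) (Fib q) (Fin r' → R)).1 ?_
        rw [map_zero, psi_natural_apply, psi_natural_apply, hy]
        refine LinearMap.ext fun t => ?_
        change φ₀ (π.baseChange (Fib q) (ι.baseChange (Fib q) (π'.baseChange (Fib q) t))) = 0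
        rw [(exact_baseChange (Fib q) hex hπ).apply_apply_eq_zero, map_zero]
      obtain ⟨z, hz⟩ := ((exact_baseChange (Fib q) (LinearMap.exact_map_mkQ_range _)
        (Submodule.mkQ_surjective _)) y).1 h1
      refine ⟨z, LinearMap.ext fun t => ?_⟩
      obtain ⟨t, rfl⟩ := surjective_baseChange (Fib q) hπ t
      rw [LinearMap.baseChange_comp, LinearMap.comp_apply] at hz
      rw [← hz, psi_natural_apply] at hy
      exact LinearMap.congr_fun hy t
    · rcases Nat.lt_or_ge i 2 with h | h
      · obtain rfl : i = 1 := by omega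
        obtain ⟨εS⟩ := nonempty_extOne (hSι q) (surjective_baseChange (Fib q) hπ) (exact_baseChange (Fib q) hex hπ)
        have : Subsingleton (Module.Dual (Fib q) (Fib q ⊗[R] LinearMap.ker π) ⧸
            LinearMap.range (ι.baseChange (Fib q)).dualMap) := by
          rw [Submodule.Quotient.subsingleton_iff, LinearMap.range_eq_top]
          intro φ
          obtain ⟨x, rfl⟩ := C'.surj (by omega) q φ
          exact ⟨psi (Fib q) _ x, (psi_natural_apply (Fib q) ι x).symm⟩
        exact εS.symm.toEquiv.subsingleton
      · obtain ⟨j, rfl⟩ := Nat.exists_eq_add_of_le' h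
        obtain ⟨ε⟩ := nonempty_extShift (hSι q) (surjective_baseChange (Fib q) hπ)
          (exact_baseChange (Fib q) hex hπ) j
        have := C'.van q (j + 1) (by omega) (by omega)
        exact ε.symm.toEquiv.subsingleton

section Module

variable [Algebra.FinitePresentation A R] [Module.Flat A R] (M : Type u) [AddCommGroup M] [Module R M]
  [Module A M] [IsScalarTower A R M] [Module.FinitePresentation R M] [Module.Flat A M]

/-- Fibres with duality concentrated in degree `c` force the same for the module. -/
theorem of_fib (c : ℕ)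
    (hpd : ∀ (q : Ideal R) [q.IsPrime], HasProjectiveDimensionLE (ModuleCat.of (Fib q) (Fib q ⊗[R] M)) c)
    (hvan : ∀ (q : Ideal R) [q.IsPrime] (i : ℕ), i < c → Subsingleton (FE A M q i)) :
    (∀ i, i ≠ c → Subsingleton (E R M i)) ∧ Module.Flat A (RestrictScalars A R (E R M c)) ∧
      Module.FinitePresentation R (E R M c) ∧
      ∀ (q : Ideal R) [q.IsPrime], Nonempty (FE A M q c ≃ₗ[Fib q] Fib q ⊗[R] E R M c) := by
  obtain ⟨r, π, hπ, hfk⟩ := CAlgA.RelSyzygy.exists_fp_syzygy A R M
  let w : (Fin 0 → R) →ₗ[R] Module.Dual R M := 0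
  have hflat : Module.Flat A (Module.Dual R (Fin r → R) ⧸ LinearMap.range (π.dualMap ∘ₗ w)) := by
    have : Module.Flat A (Module.Dual R (Fin r → R)) := Module.Flat.trans A R _
    exact Module.Flat.of_linearEquiv
      ((Submodule.quotEquivOfEqBot _ (by simp [w])).restrictScalars A)
  have hwS : ∀ (q : Ideal R) [q.IsPrime], LinearMap.range (wS A w q) = ⊥ := fun q _ => by
    simp [wS, w]
  have C := forward A c M (Fin 0 → R) w r π hπ hfk hflat hpd (fun q _ i _ hi => hvan q i hi)
    (fun hc q _ => by
      have := hvan q 0 (by omega)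
      have : Subsingleton (Module.Dual (Fib q) (Fib q ⊗[R] M)) :=
        (extZero (T := Fib q) (Fib q ⊗[R] M)).symm.toEquiv.subsingleton
      exact fun φ => ⟨0, Subsingleton.elim _ _⟩)
  rcases Nat.eq_zero_or_pos c with rfl | hc
  · obtain ⟨h1, h2, h3⟩ := C.zero rfl
    let e0 : (Module.Dual R M ⧸ LinearMap.range w) ≃ₗ[R] E R M 0 :=
      (Submodule.quotEquivOfEqBot _ (by simp [w])).trans (extZero M).symm
    refine ⟨fun i hi => C.van i (by omega) hi, flatRS A e0, Module.FinitePresentation.of_equiv e0,
      fun q _ => ?_⟩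
    obtain ⟨ε⟩ := h3 q
    exact ⟨(extZero (T := Fib q) (Fib q ⊗[R] M)).trans ((Submodule.quotEquivOfEqBot _ (hwS q)).symm.trans
      (ε.trans (fibCongr A e0 q)))⟩
  · obtain ⟨h1, h2, h3⟩ := C.top hc
    refine ⟨fun i hi => ?_, h1, h2, h3⟩
    rcases Nat.eq_zero_or_pos i with rfl | hi'
    · have : Subsingleton (Module.Dual R M) := subsingleton_of_forall_eq 0 fun φ => by
        obtain ⟨z, rfl⟩ := C.surj hc φ
        rfl
      exact (extZero M).toEquiv.subsingleton
    · exact C.van i hi' hi

/-- The converse over a Noetherian ring, given finite projective dimension. -/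
theorem to_fib [IsNoetherianRing R] (c t : ℕ) (ht : HasProjectiveDimensionLE (ModuleCat.of R M) t)
    (hvan : ∀ i, i ≠ c → Subsingleton (E R M i)) (hflat : Module.Flat A (RestrictScalars A R (E R M c))) :
    ∀ (q : Ideal R) [q.IsPrime], HasProjectiveDimensionLE (ModuleCat.of (Fib q) (Fib q ⊗[R] M)) c ∧
      ∀ i, i ≠ c → Subsingleton (FE A M q i) := by
  have hpd : HasProjectiveDimensionLE (ModuleCat.of R M) c :=
    (ExtVanish.pd_le_iff M (t + 1) c ht).2 fun i hi => hvan i (by omega)
  obtain ⟨r, π, hπ, hfk⟩ := CAlgA.RelSyzygy.exists_fp_syzygy A R M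
  let w : (Fin 0 → R) →ₗ[R] Module.Dual R M := 0
  have hsub : 1 ≤ c → Subsingleton (Module.Dual R M) := fun hc =>
    haveI := hvan 0 (by omega)
    (extZero M).symm.toEquiv.subsingleton
  have C := backward A c M (Fin 0 → R) w r π hπ hfk hpd (fun i _ hi => hvan i (by omega))
    (fun hc => by
      have := hsub hc
      exact ⟨fun φ => ⟨0, Subsingleton.elim _ _⟩, hflat⟩)
    (fun hc => by
      subst hc
      let e0 : E R M 0 ≃ₗ[R] (Module.Dual R M ⧸ LinearMap.range w) :=
        (extZero M).trans (Submodule.quotEquivOfEqBot _ (by simp [w])).symm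
      let e' : (Module.Dual R M ⧸ LinearMap.range w) ≃ₗ[A] RestrictScalars A R (E R M 0) :=
        { toFun := fun x => (RestrictScalars.addEquiv A R _).symm (e0.symm x)
          invFun := fun x => e0 (RestrictScalars.addEquiv A R _ x)
          map_add' := fun x y => by simp only [map_add]
          map_smul' := fun a x => by
            simp only [RingHom.id_apply]
            rw [← algebraMap_smul R a x, map_smul, RestrictScalars.addEquiv_symm_map_algebraMap_smul]
          left_inv := fun x => by simp
          right_inv := fun x => by simp }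
      exact Module.Flat.of_linearEquiv e')
  refine fun q _ => ⟨C.pd q, fun i hi => ?_⟩
  rcases Nat.eq_zero_or_pos i with rfl | hi'
  · have : Subsingleton (Module.Dual (Fib q) (Fib q ⊗[R] M)) := subsingleton_of_forall_eq 0 fun φ => by
      obtain ⟨z, rfl⟩ := C.surj (by omega) q φ
      simp [wS, w]
    exact (extZero (T := Fib q) (Fib q ⊗[R] M)).toEquiv.subsingleton
  · exact C.van q i hi' hi

end Module

end Groth.Agent.CMExt
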