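import Mathlib.LinearAlgebra.Dual.BaseChange
import Mathlib.RingTheory.Finiteness.Cardinality
import Mathlib.LinearAlgebra.TensorProduct.RightExactness
import Mathlib.RingTheory.Localization.BaseChange
import Groth.Agent.FibCodepth.Fibre

/-!
# Duals and base change; the fibre local ring
-/

set_option autoImplicit false

universe u

open TensorProduct

namespace Groth.Agent.CMExt

variable {R : Type u} [CommRing R] (S : Type u) [CommRing S] [Algebra R S]

/-- The base change map of duals. -/
noncomputable def psi (M : Type u) [AddCommGroup M] [Module R M] :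
    S ⊗[R] Module.Dual R M →ₗ[S] Module.Dual S (S ⊗[R] M) :=
  (Module.Dual.baseChange S).liftBaseChange S

theorem psi_tmul {M : Type u} [AddCommGroup M] [Module R M] (a b : S) (f : Module.Dual R M) (m : M) :
    psi S M (a ⊗ₜ f) (b ⊗ₜ m) = a * (f m • b) := by
  rw [psi, LinearMap.liftBaseChange_tmul, LinearMap.smul_apply, Module.Dual.baseChange_apply_tmul,
    smul_eq_mul]

theorem psi_natural {M N : Type u} [AddCommGroup M] [Module R M] [AddCommGroup N] [Module R N]
    (f : M →ₗ[R] N) :
    psi S M ∘ₗ f.dualMap.baseChange S = (f.baseChange S).dualMap ∘ₗ psi S N := by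
  apply TensorProduct.AlgebraTensorModule.ext (R := R)
  intro a φ
  apply TensorProduct.AlgebraTensorModule.ext (R := R)
  intro b m
  simp only [LinearMap.comp_apply, LinearMap.baseChange_tmul, LinearMap.dualMap_apply, psi_tmul]

theorem psi_natural_apply {M N : Type u} [AddCommGroup M] [Module R M] [AddCommGroup N] [Module R N]
    (f : M →ₗ[R] N) (x : S ⊗[R] Module.Dual R N) :
    psi S M (f.dualMap.baseChange S x) = (f.baseChange S).dualMap (psi S N x) :=
  LinearMap.congr_fun (psi_natural S f) x

theorem bijective_psi_free (M : Type u) [AddCommGroup M] [Module R M] [Module.Free R M] [Module.Finite R M] :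
    Function.Bijective (psi (R := R) S M) := by
  have h : psi (R := R) S M = ((TensorProduct.isBaseChange (R := R) (M := M) (S := S)).toDualBaseChange).toLinearMap := by
    apply TensorProduct.AlgebraTensorModule.ext (R := R)
    intro a φ
    apply TensorProduct.AlgebraTensorModule.ext (R := R)
    intro b m
    have e := IsBaseChange.toDualBaseChange_tmul (TensorProduct.isBaseChange (R := R) (M := M) (S := S)) a φ m
    change psi S M (a ⊗ₜ φ) (b ⊗ₜ m) =
      (TensorProduct.isBaseChange (R := R) (M := M) (S := S)).toDualBaseChange (a ⊗ₜ φ) (b ⊗ₜ m)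
    rw [psi_tmul, show (b ⊗ₜ[R] m : S ⊗[R] M) = b • ((1 : S) ⊗ₜ[R] m) by
      rw [TensorProduct.smul_tmul', smul_eq_mul, mul_one], map_smul]
    erw [e]
    rw [smul_eq_mul, Algebra.smul_def]
    ring
  rw [h]
  exact LinearEquiv.bijective _

theorem bijective_psi (M : Type u) [AddCommGroup M] [Module R M] [Module.Projective R M] [Module.Finite R M] :
    Function.Bijective (psi (R := R) S M) := by
  obtain ⟨r, π, hπ⟩ := Module.Finite.exists_fin' R M
  obtain ⟨s, hs⟩ := Module.projective_lifting_property π LinearMap.id hπ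
  have hF := bijective_psi_free (R := R) S (Fin r → R)
  refine ⟨fun x y h => ?_, fun φ => ?_⟩
  · have h1 := psi_natural_apply S π x
    rw [h, ← psi_natural_apply] at h1
    have h2 := congrArg (s.dualMap.baseChange S) (hF.1 h1)
    have hsd : s.dualMap ∘ₗ π.dualMap = LinearMap.id :=
      LinearMap.ext fun φ => LinearMap.ext fun m => congrArg φ (LinearMap.congr_fun hs m)
    rwa [← LinearMap.comp_apply, ← LinearMap.comp_apply (s.dualMap.baseChange S),
      ← LinearMap.baseChange_comp, hsd, LinearMap.baseChange_id] at h2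
  · obtain ⟨x, hx⟩ := hF.2 ((π.baseChange S).dualMap φ)
    refine ⟨s.dualMap.baseChange S x, ?_⟩
    rw [psi_natural_apply, hx, ← LinearMap.comp_apply, LinearMap.dualMap_comp_dualMap,
      ← LinearMap.baseChange_comp, hs, LinearMap.baseChange_id, LinearMap.dualMap_id]
    rfl

theorem exact_baseChange {M N P : Type u} [AddCommGroup M] [Module R M] [AddCommGroup N] [Module R N]
    [AddCommGroup P] [Module R P] {f : M →ₗ[R] N} {g : N →ₗ[R] P} (hfg : Function.Exact f g)
    (hg : Function.Surjective g) : Function.Exact (f.baseChange S) (g.baseChange S) :=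
  lTensor_exact S hfg hg

theorem surjective_baseChange {M N : Type u} [AddCommGroup M] [Module R M] [AddCommGroup N] [Module R N]
    {g : M →ₗ[R] N} (hg : Function.Surjective g) : Function.Surjective (g.baseChange S) :=
  LinearMap.lTensor_surjective S hg

section Fibre

variable {A : Type u} [CommRing A] [Algebra A R] (q : Ideal R) [q.IsPrime]

/-- What vanishes in the fibre at `q` is locally in `p M`. -/
theorem exists_smul_mem {M : Type u} [AddCommGroup M] [Module R M] (m : M)
    (h : ((1 : EGA4.FibLocRing A R q) ⊗ₜ[R] m : EGA4.FibLocRing A R q ⊗[R] M) = 0) :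
    ∃ s ∉ q, s • m ∈ (q.comap (algebraMap A R)).map (algebraMap A R) • (⊤ : Submodule R M) := by
  let J := (q.comap (algebraMap A R)).map (algebraMap A R)
  let L := Localization.AtPrime q
  let Z := L ⊗[R] (M ⧸ (J • ⊤ : Submodule R M))
  have hK : ((q.comap (algebraMap A R)).map (algebraMap A L)).restrictScalars R = J • (⊤ : Submodule R L) := by
    rw [Ideal.smul_top_eq_map, Ideal.map_map, ← IsScalarTower.algebraMap_eq]
  let b : L →ₗ[R] M →ₗ[R] Z :=
    (TensorProduct.mk R L (M ⧸ (J • ⊤ : Submodule R M))).compl₂ (Submodule.mkQ _)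
  have hb : ((q.comap (algebraMap A R)).map (algebraMap A L)).restrictScalars R ≤ LinearMap.ker b := by
    rw [hK]
    refine Submodule.smul_le.2 fun a ha l _ => LinearMap.mem_ker.2 (LinearMap.ext fun x => ?_)
    change (a • l) ⊗ₜ[R] Submodule.Quotient.mk x = 0
    rw [TensorProduct.smul_tmul, ← Submodule.Quotient.mk_smul,
      (Submodule.Quotient.mk_eq_zero _).2 (Submodule.smul_mem_smul ha Submodule.mem_top), TensorProduct.tmul_zero]
  let b' := Submodule.liftQ (R₂ := R) (τ₁₂ := RingHom.id R) (M₂ := M →ₗ[R] Z)
    (((q.comap (algebraMap A R)).map (algebraMap A L)).restrictScalars R : Submodule R L) b hb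
  let bq : EGA4.FibLocRing A R q →ₗ[R] M →ₗ[R] Z :=
    b'.comp (Submodule.Quotient.restrictScalarsEquiv R
        ((q.comap (algebraMap A R)).map (algebraMap A L))).symm.toLinearMap
  have h0 := congrArg (TensorProduct.lift bq) h
  rw [TensorProduct.lift.tmul, map_zero] at h0
  have h1 : ((TensorProduct.mk R L (M ⧸ (J • ⊤ : Submodule R M))) 1) (Submodule.Quotient.mk m) = 0 := h0
  obtain ⟨s, hs⟩ := (IsLocalizedModule.eq_zero_iff q.primeCompl _).1 h1
  refine ⟨s.1, s.2, ?_⟩
  rw [← Submodule.Quotient.mk_eq_zero, Submodule.Quotient.mk_smul]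
  exact hs

end Fibre

end Groth.Agent.CMExt
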