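import Mathlib.Algebra.Category.ModuleCat.Ext.HasExt
import Mathlib.Algebra.Category.ModuleCat.Projective
import Mathlib.Algebra.Homology.ShortComplex.ModuleCat
import Mathlib.Algebra.Homology.DerivedCategory.Ext.ExactSequences
import Mathlib.Algebra.Homology.DerivedCategory.Ext.EnoughProjectives
import Mathlib.Algebra.Homology.DerivedCategory.Ext.Linear
import Mathlib.LinearAlgebra.Dual.Defs
import Mathlib.LinearAlgebra.Isomorphisms

/-!
# `Ext` into the ring along a presentation `0 → K → F → M → 0` with `F` projective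
-/

set_option autoImplicit false

universe u

open CategoryTheory Abelian

namespace Groth.Agent.CMExt

variable {T : Type u} [CommRing T] {K F M : Type u} [AddCommGroup K] [AddCommGroup F] [AddCommGroup M]
  [Module T K] [Module T F] [Module T M] {f : K →ₗ[T] F} {g : F →ₗ[T] M}
  (hf : Function.Injective f) (hg : Function.Surjective g) (hfg : Function.Exact f g)

/-- `Ext⁰(M, T)` is the dual. -/
noncomputable def extZero (M : Type u) [AddCommGroup M] [Module T M] :
    Ext (ModuleCat.of T M) (ModuleCat.of T T) 0 ≃ₗ[T] Module.Dual T M :=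
  Ext.linearEquiv₀.trans ModuleCat.homLinearEquiv

/-- The short exact sequence. -/
noncomputable abbrev sc : ShortComplex (ModuleCat.{u} T) :=
  ShortComplex.mk (ModuleCat.ofHom f) (ModuleCat.ofHom g) (ModuleCat.hom_ext hfg.linearMap_comp_eq_zero)

include hf hg in
theorem sc_shortExact : (sc hfg).ShortExact :=
  { exact := (ShortComplex.ShortExact.moduleCat_exact_iff_function_exact _).2 hfg
    mono_f := (ModuleCat.mono_iff_injective _).2 hf
    epi_g := (ModuleCat.epi_iff_surjective _).2 hg }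

include hf hg hfg in
/-- `Ext¹(M, T)` is the cokernel of `F^* → K^*`. -/
theorem nonempty_extOne [Module.Projective T F] :
    Nonempty ((Module.Dual T K ⧸ LinearMap.range f.dualMap) ≃ₗ[T] Ext (ModuleCat.of T M) (ModuleCat.of T T) 1) := by
  have hS := sc_shortExact hf hg hfg
  let δ : Module.Dual T K →ₗ[T] Ext (ModuleCat.of T M) (ModuleCat.of T T) 1 :=
    { toFun := fun φ => hS.extClass.comp (Ext.mk₀ (ModuleCat.ofHom φ)) rfl
      map_add' := fun a b => by
        rw [ModuleCat.ofHom_add, Ext.mk₀_add]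
        exact Ext.comp_add _ _ _ _
      map_smul' := fun r a => by
        rw [show ModuleCat.ofHom (r • a) = r • ModuleCat.ofHom a from rfl, Ext.mk₀_smul, Ext.comp_smul]
        rfl }
  have hδ : Function.Surjective δ := fun x => by
    obtain ⟨y, hy⟩ := Ext.contravariant_sequence_exact₃ hS _ x (Ext.eq_zero_of_projective _) (n₀ := 0) rfl
    refine ⟨(Ext.linearEquiv₀ (R := T) y).hom, ?_⟩
    change hS.extClass.comp (Ext.mk₀ (Ext.linearEquiv₀ (R := T) y)) rfl = x
    rw [Ext.mk₀_linearEquiv₀_apply]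
    exact hy
  have hk : LinearMap.ker δ = LinearMap.range f.dualMap := by
    ext φ
    rw [LinearMap.mem_ker]
    constructor
    · intro h
      obtain ⟨z, hz⟩ := Ext.contravariant_sequence_exact₁ hS _ (Ext.mk₀ (ModuleCat.ofHom φ)) (n₁ := 1) rfl h
      refine ⟨(Ext.linearEquiv₀ (R := T) z).hom, ?_⟩
      rw [← Ext.mk₀_linearEquiv₀_apply (R := T) z, Ext.mk₀_comp_mk₀] at hz
      exact congrArg ModuleCat.Hom.hom ((Ext.mk₀_bijective _ _).1 hz)
    · rintro ⟨ψ, rfl⟩
      change hS.extClass.comp (Ext.mk₀ (ModuleCat.ofHom f ≫ ModuleCat.ofHom ψ)) rfl = 0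
      rw [← Ext.mk₀_comp_mk₀]
      exact hS.extClass_comp_assoc _
  exact ⟨(Submodule.quotEquivOfEq _ _ hk.symm).trans (δ.quotKerEquivOfSurjective hδ)⟩

include hf hg hfg in
/-- The shift `Ext^{i+1}(K, T) ≅ Ext^{i+2}(M, T)`. -/
theorem nonempty_extShift [Module.Projective T F] (i : ℕ) :
    Nonempty (Ext (ModuleCat.of T K) (ModuleCat.of T T) (i + 1) ≃ₗ[T]
      Ext (ModuleCat.of T M) (ModuleCat.of T T) (i + 2)) := by
  have hS := sc_shortExact hf hg hfg
  let δ : Ext (ModuleCat.of T K) (ModuleCat.of T T) (i + 1) →ₗ[T]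
      Ext (ModuleCat.of T M) (ModuleCat.of T T) (i + 2) :=
    Ext.bilinearCompOfLinear T _ _ _ 1 (i + 1) (i + 2) (by omega) hS.extClass
  refine ⟨LinearEquiv.ofBijective δ ⟨(injective_iff_map_eq_zero δ).2 fun x hx => ?_, fun x => ?_⟩⟩
  · obtain ⟨z, hz⟩ := Ext.contravariant_sequence_exact₁ hS _ x (n₁ := i + 2) (by omega) hx
    rw [← hz, Ext.eq_zero_of_projective z]
    exact Ext.comp_zero _ _ _ _ _
  · exact Ext.contravariant_sequence_exact₃ hS _ x (Ext.eq_zero_of_projective _) (by omega)

end Groth.Agent.CMExt
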