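import Groth.Agent.CMExt.Main
import Groth.Agent.DualCx.GorNormal
import Groth.Agent.S0342
import Groth.Agent.S0366
import Groth.Agent.S0368
import Groth.Agent.S19859
import Groth.Agent.FibCodepth.Alg
import Groth.Agent.RegLoc.Homological
import Groth.Agent.TrdegDim.Basic
import Groth.Agent.GeomFieldLib.CMTensor

/-!
# Fibres of `A[t]/I`: Cohen–Macaulay of pure dimension `n` iff duality concentrated in degree `N - n`
-/

set_option autoImplicit false
set_option linter.style.haveILetI false

universe u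

open TensorProduct CategoryTheory

attribute [local instance] HasDerivedCategory.standard

namespace Groth.Agent.CMExt

attribute [local instance] Algebra.TensorProduct.rightAlgebra

/-- Over a regular local ring, duality is concentrated in degree `c` iff CM of codimension `c`. -/
theorem ext_iff_cm {T : Type u} [CommRing T] [IsRegularLocalRing T] (d : ℕ) (hd : ringKrullDim T = d)
    (M : Type u) [AddCommGroup M] [Module T M] [Module.Finite T M] [Nontrivial M] (c : ℕ) :
    (∀ i, i ≠ c → Subsingleton (E T M i)) ↔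
      (LocCoh.IsCohenMacaulayModule T M ∧ ∃ s : ℕ, Module.supportDim T M = s ∧ s + c = d) := by
  have : LocCoh.IsGorensteinLocalRing T := S0342.result T
  let ω := (Dual.inD T T)⟦(d : ℤ)⟧
  have hω : Dual.IsDualizing T ω := DualCx.GorNormal.isDualizing hd
  have hn : Dual.IsNormalized T ω := DualCx.GorNormal.isNormalized hd
  obtain ⟨s, hs⟩ : ∃ s : ℕ, Module.supportDim T M = s := by
    have h0 := (Module.supportDim_ne_bot_iff_nontrivial T M).mpr ‹_›
    obtain ⟨c₀, hc₀⟩ := DualCx.Normal.exists_supportDim (A := T) M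
    revert h0 hc₀
    generalize Module.supportDim T M = x
    intro h0 hc₀
    cases x with
    | bot => exact absurd rfl h0
    | coe a =>
      lift a to ℕ using (by
        rintro rfl
        exact (WithBot.coe_lt_coe.mpr (ENat.natCast_lt_top c₀)).not_ge hc₀)
      exact ⟨a, rfl⟩
  have hsd : s ≤ d := by
    have h := (Module.supportDim_le_ringKrullDim T M).trans hd.le
    rw [hs] at h
    exact_mod_cast h
  have tr : ∀ i : ℕ, Subsingleton (E T M i) ↔ Subsingleton (Dual.inD T M ⟶ ω⟦((i : ℤ) - d)⟧) := fun i => by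
    obtain ⟨e⟩ := DualCx.GorNormal.nonempty_extEquiv (A := T) (d := d) M i
    exact e.toEquiv.subsingleton_congr
  constructor
  · intro h
    have hne := S19859.result T ω hω hn M s hs
    have hc : s + c = d := by
      by_contra hne'
      have := (tr (d - s)).1 (h (d - s) (by omega))
      rw [show (((d - s : ℕ) : ℤ) - d) = -(s : ℤ) by omega] at this
      exact not_subsingleton _ this
    refine ⟨(S0368.result T ω hω hn M s hs).2 fun i hi => ?_, s, hs, hc⟩
    by_cases hnt : Subsingleton (Dual.inD T M ⟶ ω⟦-i⟧)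
    · exact hnt
    obtain ⟨h1, h2⟩ := (S0366.result T ω hω hn M s hs (-i)).1 (not_subsingleton_iff_nontrivial.1 hnt)
    have := (tr (d - i.toNat)).1 (h (d - i.toNat) (by omega))
    rwa [show (((d - i.toNat : ℕ) : ℤ) - d) = -i by omega] at this
  · rintro ⟨hcm, s', hs', hc⟩ i hi
    obtain rfl : s' = s := by exact_mod_cast hs'.symm.trans hs
    rw [tr, show ((i : ℤ) - d) = -((d : ℤ) - i) by omega]
    exact (S0368.result T ω hω hn M s' hs).1 hcm _ (by omega)

theorem pd_le_of_vanishing {T : Type u} [CommRing T] [IsRegularLocalRing T] (d : ℕ) (hd : ringKrullDim T = d)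
    (M : Type u) [AddCommGroup M] [Module T M] [Module.Finite T M] (c : ℕ)
    (h : ∀ i, i ≠ c → Subsingleton (E T M i)) : HasProjectiveDimensionLE (ModuleCat.of T M) c :=
  (ExtVanish.pd_le_iff M (d + 1) c (RegLoc.Homological.pd_le_dim hd M)).2 fun i hi => h i (by omega)

section Fibre

variable (A : Type u) [CommRing A] (N : ℕ) (B : Type u) [CommRing B] [Algebra A B]
  [Algebra (MvPolynomial (Fin N) A) B] [IsScalarTower A (MvPolynomial (Fin N) A) B]

local notation "Pol" => MvPolynomial (Fin N) A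
local notation "Fib" => EGA4.FibLocRing A (MvPolynomial (Fin N) A)

theorem regular_fib (q : Ideal Pol) [q.IsPrime] :
    IsRegularLocalRing (Fib q) ∧ ∃ d : ℕ, ringKrullDim (Fib q) = d ∧ d ≤ N := by
  let p := q.under A
  haveI : q.LiesOver p := ⟨rfl⟩
  letI := FibCodepth.resAlg p q
  haveI := FibCodepth.resAlg_tower p q
  obtain ⟨t, ht⟩ := RelDim.exists_trdeg_eq p q
  obtain ⟨hreg, hdim⟩ := FibCodepth.regular_and_dim A N q p t ht
  obtain ⟨d, hd⟩ := FibCodepth.exists_nat_of_add_eq hdim
  refine ⟨hreg, d, hd, ?_⟩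
  rw [hd] at hdim
  have : d + t = N := by exact_mod_cast hdim
  omega

theorem coheight_eq {F : Type u} [CommRing F] (Q : PrimeSpectrum F) :
    ringKrullDim (F ⧸ Q.asIdeal) = (Order.coheight Q : WithBot ℕ∞) := by
  rw [ringKrullDim_quotient, Order.coheight_eq_krullDim_Ici]
  exact Order.krullDim_eq_of_orderIso (OrderIso.setCongr _ _ (by ext q; simp))

theorem minimal_comap {S T : Type u} [CommRing S] [CommRing T] (e : S ≃+* T) {Q : PrimeSpectrum T}
    (hQ : Q.asIdeal ∈ minimalPrimes T) : (PrimeSpectrum.comap (e : S →+* T) Q).asIdeal ∈ minimalPrimes S := by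
  have h : (⊥ : Ideal T).comap (e : S →+* T) = ⊥ :=
    Ideal.comap_bot_of_injective (e : S →+* T) e.injective
  have h2 := Ideal.comap_minimalPrimes_eq_of_surjective (f := (e : S →+* T)) e.surjective (⊥ : Ideal T)
  rw [h] at h2
  have h3 : (PrimeSpectrum.comap (e : S →+* T) Q).asIdeal ∈ Ideal.comap (e : S →+* T) '' (⊥ : Ideal T).minimalPrimes :=
    Set.mem_image_of_mem _ hQ
  rwa [← h2] at h3

theorem minimal_dim_iff {S T : Type u} [CommRing S] [CommRing T] (e : S ≃+* T) (n : ℕ) :
    (∀ Q : PrimeSpectrum S, Q.asIdeal ∈ minimalPrimes S → Order.coheight Q = (n : ℕ∞)) ↔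
      ∀ Q : PrimeSpectrum T, Q.asIdeal ∈ minimalPrimes T → ringKrullDim (T ⧸ Q.asIdeal) = n := by
  constructor
  · intro H Q hQ
    have h2 := H (PrimeSpectrum.comap (e : S →+* T) Q) (minimal_comap e hQ)
    rw [← ringKrullDim_eq_of_ringEquiv (Ideal.quotientEquiv _ Q.asIdeal e
      (Ideal.map_comap_of_surjective (e : S →+* T) e.surjective Q.asIdeal).symm)]
    exact (coheight_eq (PrimeSpectrum.comap (e : S →+* T) Q)).trans (by rw [h2]; rfl)
  · intro H Q hQ
    have h2 := H (PrimeSpectrum.comap (e.symm : T →+* S) Q) (minimal_comap e.symm hQ)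
    rw [PrimeSpectrum.comap_asIdeal, ringKrullDim_eq_of_ringEquiv (Ideal.quotientEquiv _ Q.asIdeal e.symm
      (Ideal.map_comap_of_surjective (e.symm : T →+* S) e.symm.surjective Q.asIdeal).symm), coheight_eq] at h2
    exact WithBot.coe_inj.1 h2

/-- The point of affine space under a point of a fibre. -/
noncomputable abbrev ptP (p : Ideal A) [p.IsPrime] (Q : PrimeSpectrum (p.Fiber B)) : PrimeSpectrum Pol :=
  PrimeSpectrum.comap (algebraMap Pol B)
    (PrimeSpectrum.comap Algebra.TensorProduct.includeRight.toRingHom Q)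

theorem fibre_numbers {k F : Type u} [Field k] [CommRing F] [Algebra k F] [Algebra.FiniteType k F]
    (Q : Ideal F) [Q.IsPrime] {K : Type u} [Field K] [Algebra k K] (e : K ≃+* Q.ResidueField)
    (he : ∀ c, e (algebraMap k K c) = algebraMap F Q.ResidueField (algebraMap k F c))
    (r : ℕ) (hr : Algebra.trdeg k K = r) :
    ringKrullDim (F ⧸ Q) = r ∧
      ∃ P₀ ∈ minimalPrimes F, ringKrullDim (F ⧸ P₀) = (Q.height : WithBot ℕ∞) + r := by
  have hr' : Algebra.trdeg k Q.ResidueField = r := by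
    rw [← hr]
    exact (AlgEquiv.ofRingEquiv (f := e) fun c =>
      (he c).trans (IsScalarTower.algebraMap_apply k F Q.ResidueField c).symm).trdeg_eq.symm
  obtain ⟨P₀, hP₀, -, hd⟩ := TrdegDim.exists_minimalPrime_eq Q r hr'
  exact ⟨TrdegDim.ringKrullDim_quotient_eq Q r hr', P₀, hP₀, hd⟩

theorem finiteType (hsurj : Function.Surjective (algebraMap Pol B)) : Algebra.FiniteType A B :=
  Algebra.FiniteType.of_surjective (IsScalarTower.toAlgHom A Pol B) hsurj

/-- Residue fields along a surjection. -/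
theorem trdeg_surj (hsurj : Function.Surjective (algebraMap Pol B)) (z : Ideal B) [z.IsPrime] (q : Ideal Pol)
    [q.IsPrime] (hq : z.comap (algebraMap Pol B) = q) (p : Ideal A) [p.IsPrime] [q.LiesOver p]
    [Algebra p.ResidueField q.ResidueField] [IsScalarTower A p.ResidueField q.ResidueField]
    [Algebra p.ResidueField z.ResidueField] [IsScalarTower A p.ResidueField z.ResidueField] :
    Algebra.trdeg p.ResidueField z.ResidueField = Algebra.trdeg p.ResidueField q.ResidueField := by
  subst hq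
  let m := Ideal.ResidueField.mapₐ (z.comap (algebraMap Pol B)) z (IsScalarTower.toAlgHom A Pol B) rfl
  have hm : ∀ b : Pol, m (algebraMap Pol (z.comap (algebraMap Pol B)).ResidueField b) =
      algebraMap B z.ResidueField (algebraMap Pol B b) := fun b =>
    Ideal.ResidueField.map_algebraMap _ _ _ _ b
  have hbij : Function.Bijective m := by
    refine ⟨m.toRingHom.injective, fun w => ?_⟩
    obtain ⟨x, s, hs, rfl⟩ := IsFractionRing.div_surjective (B ⧸ z) w
    obtain ⟨x, rfl⟩ := Ideal.Quotient.mk_surjective x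
    obtain ⟨s, rfl⟩ := Ideal.Quotient.mk_surjective s
    obtain ⟨x, rfl⟩ := hsurj x
    obtain ⟨s, rfl⟩ := hsurj s
    refine ⟨algebraMap Pol _ x / algebraMap Pol _ s, ?_⟩
    rw [map_div₀, hm, hm]
    rfl
  have hc : m.toRingHom.comp (algebraMap p.ResidueField (z.comap (algebraMap Pol B)).ResidueField) =
      algebraMap p.ResidueField z.ResidueField := by
    refine Ideal.ResidueField.ringHom_ext (RingHom.ext fun a => ?_)
    simp only [RingHom.comp_apply]
    rw [← IsScalarTower.algebraMap_apply, ← IsScalarTower.algebraMap_apply]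
    exact m.commutes a
  exact (AlgEquiv.ofRingEquiv (f := RingEquiv.ofBijective m.toRingHom hbij)
    (fun c => RingHom.congr_fun hc c)).trdeg_eq.symm

/-- The numbers attached to a point of a fibre. -/
theorem exists_point (hsurj : Function.Surjective (algebraMap Pol B)) (p : Ideal A) [p.IsPrime] (Q : PrimeSpectrum (p.Fiber B)) :
    ∃ (h s t : ℕ), RingHom.ker (algebraMap Pol B) ≤ (ptP A N B p Q).asIdeal ∧ ringKrullDim (Fib (ptP A N B p Q).asIdeal) = h ∧ h + t = N ∧
      Module.supportDim (Fib (ptP A N B p Q).asIdeal) (Fib (ptP A N B p Q).asIdeal ⊗[Pol] B) = s ∧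
      (Q.asIdeal.height : WithBot ℕ∞) = s ∧
      (ringKrullDim (p.Fiber B ⧸ Q.asIdeal) = t ∧
        ∃ P₀ ∈ minimalPrimes (p.Fiber B), ringKrullDim (p.Fiber B ⧸ P₀) = (Q.asIdeal.height : WithBot ℕ∞) + t) ∧
      (LocCoh.IsCohenMacaulayModule (Fib (ptP A N B p Q).asIdeal) (Fib (ptP A N B p Q).asIdeal ⊗[Pol] B) ↔
        LocCoh.IsCohenMacaulayLocalRing (Localization.AtPrime Q.asIdeal)) := by
  let z : Ideal B := Q.asIdeal.comap Algebra.TensorProduct.includeRight.toRingHom
  haveI : z.IsPrime := Ideal.comap_isPrime _ _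
  haveI : z.LiesOver p := ⟨((congrArg PrimeSpectrum.asIdeal
    ((PrimeSpectrum.preimageOrderIsoFiber A B ⟨p, inferInstance⟩).symm Q).2)).symm⟩
  haveI := finiteType A N B hsurj
  haveI : Module.Finite Pol B := Module.Finite.of_surjective (Algebra.linearMap Pol B) hsurj
  let q : Ideal Pol := z.comap (algebraMap Pol B)
  haveI : q.IsPrime := Ideal.comap_isPrime _ _
  haveI : q.LiesOver p := ⟨(Ideal.LiesOver.over (P := z) (p := p)).trans (by
    ext x
    show algebraMap A B x ∈ z ↔ algebraMap Pol B (algebraMap A Pol x) ∈ z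
    rw [← IsScalarTower.algebraMap_apply])⟩
  letI := FibCodepth.resAlg p q
  haveI := FibCodepth.resAlg_tower p q
  letI := FibCodepth.resAlg p z
  haveI := FibCodepth.resAlg_tower p z
  obtain ⟨t, ht⟩ := RelDim.exists_trdeg_eq p q
  obtain ⟨hreg, hdim⟩ := FibCodepth.regular_and_dim A N q p t ht
  obtain ⟨h, hh⟩ := FibCodepth.exists_nat_of_add_eq hdim
  have htz : Algebra.trdeg p.ResidueField z.ResidueField = t :=
    (trdeg_surj A N B hsurj z q rfl p).trans ht
  obtain ⟨eK, heK⟩ := RelDim.exists_residueFieldEquiv p z Q.asIdeal rfl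
  have htQ := fibre_numbers (k := p.ResidueField) (F := p.Fiber B) Q.asIdeal eK heK t htz
  obtain ⟨h1, h2⟩ := FibCodepth.depth_supportDim_fib_of_surjective (A := A) hsurj B z q rfl
  obtain ⟨h3, h4⟩ := FibCodepth.depth_supportDim_fiber B p Q z rfl
  let L := Localization.AtPrime Q.asIdeal
  let e : LocalizedModule Q.asIdeal.primeCompl (p.Fiber B ⊗[B] B) ≃ₗ[L] L :=
    (IsLocalizedModule.mapEquiv Q.asIdeal.primeCompl
      (LocalizedModule.mkLinearMap Q.asIdeal.primeCompl (p.Fiber B ⊗[B] B))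
      (LocalizedModule.mkLinearMap Q.asIdeal.primeCompl (p.Fiber B)) L
      (AlgebraTensorModule.rid B (p.Fiber B) (p.Fiber B))).trans
      (Depth.localizedModuleSelfEquiv Q.asIdeal.primeCompl)
  obtain ⟨h5, h6⟩ := EGA4Lib.depth_supportDim_congr (L := L) (X := LocalizedModule Q.asIdeal.primeCompl (p.Fiber B ⊗[B] B)) (Y := L) e
  have hS : Module.supportDim (Fib q) (Fib q ⊗[Pol] B) = Module.supportDim L L := by
    rw [← h2, ← h4, h6]
  have hD : LocCoh.depth (Fib q) (Fib q ⊗[Pol] B) = LocCoh.depth L L := by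
    rw [← h1, ← h3, h5]
  rw [Module.supportDim_self_eq_ringKrullDim,
    IsLocalization.AtPrime.ringKrullDim_eq_height Q.asIdeal L] at hS
  haveI : IsNoetherianRing (p.Fiber B) := Algebra.FiniteType.isNoetherianRing p.ResidueField _
  obtain ⟨s, hs⟩ := ENat.ne_top_iff_exists.1 (Ideal.height_ne_top_of_isPrime (I := Q.asIdeal))
  refine ⟨h, s, t, ?_, hh, ?_, hS.trans (by rw [← hs]; rfl), by rw [← hs]; rfl, htQ, ?_⟩
  · intro x hx
    show algebraMap Pol B x ∈ z
    rw [RingHom.mem_ker.1 hx]
    exact z.zero_mem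
  · rw [hh] at hdim
    exact_mod_cast hdim
  · change LocCoh.IsCohenMacaulayModule (Fib q) (Fib q ⊗[Pol] B) ↔ _
    rw [Depth.isCohenMacaulayLocalRing_iff (R := L), LocCoh.IsCohenMacaulayModule,
      LocCoh.IsCohenMacaulayModule, hS, hD, Module.supportDim_self_eq_ringKrullDim,
      IsLocalization.AtPrime.ringKrullDim_eq_height Q.asIdeal L]

theorem subsingleton_of_not_le (hsurj : Function.Surjective (algebraMap Pol B)) (q : Ideal Pol) [q.IsPrime]
    (h : ¬ RingHom.ker (algebraMap Pol B) ≤ q) : Subsingleton (Fib q ⊗[Pol] B) := by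
  haveI : Module.Finite Pol B := Module.Finite.of_surjective (Algebra.linearMap Pol B) hsurj
  refine FibCodepth.subsingleton_fib (A := A) B q fun hq => h fun x hx => ?_
  rw [Module.support_eq_zeroLocus] at hq
  refine hq (Module.mem_annihilator.2 fun b => ?_)
  rw [Algebra.smul_def, RingHom.mem_ker.1 hx, zero_mul]

/-- The field case, at all fibres at once. -/
theorem fib_iff (hsurj : Function.Surjective (algebraMap Pol B)) (n : ℕ) (hnN : n ≤ N) :
    (∀ p : PrimeSpectrum A, LocCoh.IsCohenMacaulayRing (B ⊗[A] p.asIdeal.ResidueField) ∧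
      ∀ Q : PrimeSpectrum (B ⊗[A] p.asIdeal.ResidueField),
        Q.asIdeal ∈ minimalPrimes (B ⊗[A] p.asIdeal.ResidueField) → Order.coheight Q = (n : ℕ∞)) ↔
    ∀ (q : Ideal Pol) [q.IsPrime], HasProjectiveDimensionLE (ModuleCat.of (Fib q) (Fib q ⊗[Pol] B)) (N - n) ∧
      ∀ i, i ≠ N - n → Subsingleton (FE A B q i) := by
  haveI := finiteType A N B hsurj
  haveI : Module.Finite Pol B := Module.Finite.of_surjective (Algebra.linearMap Pol B) hsurj
  have step : (∀ p : PrimeSpectrum A, LocCoh.IsCohenMacaulayRing (p.asIdeal.Fiber B) ∧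
      ∀ Q : PrimeSpectrum (p.asIdeal.Fiber B),
        Q.asIdeal ∈ minimalPrimes (p.asIdeal.Fiber B) → ringKrullDim (p.asIdeal.Fiber B ⧸ Q.asIdeal) = n) ↔
    ∀ (q : Ideal Pol) [q.IsPrime], ∀ i, i ≠ N - n → Subsingleton (FE A B q i) := by
    constructor
    · intro H q _ i hi
      by_cases hq : RingHom.ker (algebraMap Pol B) ≤ q
      swap
      · have := subsingleton_of_not_le A N B hsurj q hq
        refine subsingleton_of_forall_eq 0 fun x => ?_
        rw [← Abelian.Ext.mk₀_id_comp x, show 𝟙 (ModuleCat.of (Fib q) (Fib q ⊗[Pol] B)) = 0 from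
          ModuleCat.hom_ext (LinearMap.ext fun _ => Subsingleton.elim _ _), Abelian.Ext.mk₀_zero,
          Abelian.Ext.zero_comp]
      obtain ⟨z, hz⟩ : ∃ z : PrimeSpectrum B, z.asIdeal.comap (algebraMap Pol B) = q := by
        have : (⟨q, ‹_›⟩ : PrimeSpectrum Pol) ∈ Set.range (PrimeSpectrum.comap (algebraMap Pol B)) := by
          rw [range_comap_of_surjective _ _ hsurj]
          exact hq
        obtain ⟨z, hz⟩ := this
        exact ⟨z, congrArg PrimeSpectrum.asIdeal hz⟩
      let p := z.asIdeal.under A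
      haveI : z.asIdeal.LiesOver p := ⟨rfl⟩
      obtain ⟨Q, hQ⟩ := RelDim.exists_over' p z.asIdeal
      obtain ⟨hcm, hdim⟩ := H ⟨p, inferInstance⟩
      obtain ⟨h, s, t, -, hh, hht, hs, hQs, htQ, hiff⟩ := exists_point A N B hsurj p Q
      obtain rfl : (ptP A N B p Q).asIdeal = q := by
        rw [← hz]
        exact congrArg (Ideal.comap (algebraMap Pol B)) hQ
      haveI := (regular_fib A N (ptP A N B p Q).asIdeal).1
      obtain ⟨-, P₀, hP₀, hP₀d⟩ := htQ
      have hn' := (hdim ⟨P₀, hP₀.1.1⟩ hP₀).symm.trans hP₀d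
      rw [hQs] at hn'
      have hst : n = s + t := by exact_mod_cast hn'
      haveI : Nontrivial (Fib (ptP A N B p Q).asIdeal ⊗[Pol] B) := (Module.supportDim_ne_bot_iff_nontrivial _ _).1 (by rw [hs]; simp)
      exact (ext_iff_cm h hh _ (N - n)).2
        ⟨hiff.2 (hcm.isCohenMacaulayLocalRing_localization Q.asIdeal), s, hs, by omega⟩ i hi
    · intro H p
      haveI : IsNoetherianRing (p.asIdeal.Fiber B) :=
        Algebra.FiniteType.isNoetherianRing p.asIdeal.ResidueField _
      have key : ∀ Q : PrimeSpectrum (p.asIdeal.Fiber B),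
          LocCoh.IsCohenMacaulayLocalRing (Localization.AtPrime Q.asIdeal) ∧
          ∃ s t : ℕ, (Q.asIdeal.height : WithBot ℕ∞) = s ∧ s + t = n ∧
            ringKrullDim (p.asIdeal.Fiber B ⧸ Q.asIdeal) = t := fun Q => by
        obtain ⟨h, s, t, -, hh, hht, hs, hQs, htQ, hiff⟩ := exists_point A N B hsurj p.asIdeal Q
        haveI := (regular_fib A N (ptP A N B p.asIdeal Q).asIdeal).1
        haveI : Nontrivial (Fib (ptP A N B p.asIdeal Q).asIdeal ⊗[Pol] B) := (Module.supportDim_ne_bot_iff_nontrivial _ _).1 (by rw [hs]; simp)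
        obtain ⟨hcm, s', hs', hsc⟩ := (ext_iff_cm h hh _ (N - n)).1 (H (ptP A N B p.asIdeal Q).asIdeal)
        obtain rfl : s' = s := by exact_mod_cast hs'.symm.trans hs
        exact ⟨hiff.1 hcm, s', t, hQs, by omega, htQ.1⟩
      refine ⟨⟨fun Q hQ => (key ⟨Q, hQ⟩).1⟩, fun Q hQ => ?_⟩
      obtain ⟨-, s, t, hs, hst, ht⟩ := key Q
      have h0 : Q.asIdeal.height = 0 := Ideal.height_eq_zero_iff.2 hQ
      rw [h0] at hs
      have hs0 : s = 0 := by exact_mod_cast hs.symm
      rw [ht]
      exact_mod_cast (show t = n by omega)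
  have conv : ∀ p : PrimeSpectrum A,
      (LocCoh.IsCohenMacaulayRing (B ⊗[A] p.asIdeal.ResidueField) ∧
        ∀ Q : PrimeSpectrum (B ⊗[A] p.asIdeal.ResidueField),
          Q.asIdeal ∈ minimalPrimes (B ⊗[A] p.asIdeal.ResidueField) → Order.coheight Q = (n : ℕ∞)) ↔
      (LocCoh.IsCohenMacaulayRing (p.asIdeal.Fiber B) ∧
        ∀ Q : PrimeSpectrum (p.asIdeal.Fiber B),
          Q.asIdeal ∈ minimalPrimes (p.asIdeal.Fiber B) → ringKrullDim (p.asIdeal.Fiber B ⧸ Q.asIdeal) = n) := by
    intro p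
    let e : B ⊗[A] p.asIdeal.ResidueField ≃+* p.asIdeal.Fiber B :=
      (Algebra.TensorProduct.comm A B p.asIdeal.ResidueField).toRingEquiv
    exact and_congr ⟨GeomFieldLib.isCohenMacaulayRing_of_ringEquiv e,
      GeomFieldLib.isCohenMacaulayRing_of_ringEquiv e.symm⟩ (minimal_dim_iff e n)
  rw [forall_congr' conv, step]
  exact ⟨fun H q _ => ⟨by
    haveI := (regular_fib A N q).1
    obtain ⟨d, hd, -⟩ := (regular_fib A N q).2
    exact pd_le_of_vanishing d hd _ (N - n) (H q), H q⟩, fun H q _ => (H q).2⟩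

end Fibre

end Groth.Agent.CMExt
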