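import Groth.Agent.CMExt.Poly
import Groth.Agent.DualCx.GorCyclic
import Groth.Agent.DualCx.Fiber
import Groth.Agent.QFDLib.FibreInv
import Groth.Agent.S12080
import Groth.Agent.Gor.Ring
import Groth.Agent.RelDim.FibreAway
import Groth.Agent.FDesc.Stalk

/-!
# Gorenstein fibres and invertibility of the dualizing module
-/

set_option autoImplicit false

universe u

open TensorProduct CategoryTheory

namespace Groth.Agent.CMExt

attribute [local instance] HasDerivedCategory.standard

/-- Elements killing the module kill `Ext`. -/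
theorem smul_ext_eq_zero {T : Type u} [CommRing T] (M : Type u) [AddCommGroup M] [Module T M] (b : T)
    (hb : ∀ m : M, b • m = 0) {i : ℕ} (x : E T M i) : b • x = 0 := by
  rw [← Abelian.Ext.mk₀_id_comp x, ← Abelian.Ext.smul_comp, ← Abelian.Ext.mk₀_smul,
    show b • 𝟙 (ModuleCat.of T M) = 0 from ModuleCat.hom_ext (LinearMap.ext hb), Abelian.Ext.mk₀_zero,
    Abelian.Ext.zero_comp]

/-- A quotient of a regular local ring is Gorenstein iff its dualizing module is free of rank one. -/
theorem gor_iff_cyclic {T : Type u} [CommRing T] [IsRegularLocalRing T] (d : ℕ) (hd : ringKrullDim T = d)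
    (M : Type u) [AddCommGroup M] [Module T M] [Module.Finite T M] (q : Ideal T) (hq : q ≠ ⊤)
    (eM : M ≃ₗ[T] T ⧸ q) (c : ℕ) (h : ∀ i, i ≠ c → Subsingleton (E T M i)) :
    LocCoh.IsGorensteinLocalRing (T ⧸ q) ↔ Nonempty (E T M c ≃ₗ[T] T ⧸ q) := by
  have : Nontrivial (T ⧸ q) := Ideal.Quotient.nontrivial_iff.mpr hq
  have : Nontrivial M := eM.toEquiv.nontrivial
  obtain ⟨hcm, s, hs, hsc⟩ := (ext_iff_cm d hd M c).1 h
  have hdim : ringKrullDim (T ⧸ q) = s := by
    rw [← Module.supportDim_quotient_eq_ringKrullDim, ← Module.supportDim_eq_of_equiv eM, hs]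
  have : LocCoh.IsGorensteinLocalRing T := S0342.result T
  let ω := (Dual.inD T T)⟦(d : ℤ)⟧
  have hω : Dual.IsDualizing T ω := DualCx.GorNormal.isDualizing hd
  have hn : Dual.IsNormalized T ω := DualCx.GorNormal.isNormalized hd
  obtain ⟨e0⟩ := DualCx.GorNormal.nonempty_extEquiv (A := T) (d := d) M c
  rw [show ((c : ℤ) - d) = -(s : ℤ) by omega] at e0
  let e1 := e0.trans (DualCx.Devissage.congrE eM ω (-(s : ℤ)))
  constructor
  · intro hG
    obtain ⟨e2⟩ := DualCx.GorCyclic.cyclic hω hn s q hG hdim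
    exact ⟨e1.trans e2⟩
  · rintro ⟨e2⟩
    refine DualCx.Fiber.gorenstein hω hn s q (-(s : ℤ)) hq hdim ⟨fun i hi => ?_, ⟨e1.symm.trans e2⟩⟩
    have := (S0368.result T ω hω hn M s hs).1 hcm (-i) (by omega)
    rw [neg_neg] at this
    exact (DualCx.Devissage.congrE eM ω i).symm.toEquiv.subsingleton

section Transfer

variable {P B RP RB : Type u} [CommRing P] [CommRing B] [CommRing RP] [CommRing RB] [Algebra P B]
  [Algebra P RP] [Algebra B RB] [Algebra P RB] [IsScalarTower P B RB] [Algebra RP RB] [IsScalarTower P RP RB]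

/-- Change of rings along a surjection whose kernel comes from a surjection of the base. -/
theorem nonempty_tensor_transfer
    (hs : Function.Surjective (algebraMap P B)) (hφ : Function.Surjective (algebraMap RP RB))
    (hφk : RingHom.ker (algebraMap RP RB) = (RingHom.ker (algebraMap P B)).map (algebraMap P RP))
    (N : Type u) [AddCommGroup N] [Module B N] [Module P N] [IsScalarTower P B N] :
    Nonempty (RP ⊗[P] N ≃ₗ[RP] RB ⊗[B] N) := by
  let ι : RP →ₗ[RP] RB := Algebra.linearMap RP RB
  let g : RP ⊗[P] N →ₗ[RP] RB ⊗[P] N := AlgebraTensorModule.map ι LinearMap.id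
  haveI : TensorProduct.CompatibleSMul P B RB N := ⟨fun b r m => by
    obtain ⟨x, rfl⟩ := hs b
    rw [algebraMap_smul, algebraMap_smul, TensorProduct.smul_tmul]⟩
  let e : RB ⊗[B] N ≃ₗ[RB] RB ⊗[P] N := TensorProduct.equivOfCompatibleSMul P B RB RB N
  have hgs : Function.Surjective g := fun y => by
    obtain ⟨x, hx⟩ := LinearMap.rTensor_surjective N (g := ι.restrictScalars P) hφ y
    exact ⟨x, hx⟩
  have hgi : Function.Injective g := by
    refine (injective_iff_map_eq_zero g).2 fun x hx => ?_
    have hex := rTensor_exact N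
      (f := (LinearMap.ker (ι.restrictScalars P)).subtype) (g := ι.restrictScalars P)
      (LinearMap.exact_subtype_ker_map _) hφ
    obtain ⟨y, rfl⟩ := (hex x).1 hx
    clear hx
    induction y using TensorProduct.induction_on with
    | zero => rw [map_zero]
    | tmul r m =>
      obtain ⟨r, hr0⟩ := r
      rw [LinearMap.rTensor_tmul]
      show r ⊗ₜ[P] m = 0
      have hr : r ∈ (RingHom.ker (algebraMap P B)).map (algebraMap P RP) :=
        hφk ▸ (show r ∈ RingHom.ker (algebraMap RP RB) from hr0)
      clear hr0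
      induction hr using Submodule.span_induction with
      | mem z hz =>
        obtain ⟨c, hc, rfl⟩ := hz
        rw [Algebra.algebraMap_eq_smul_one, TensorProduct.smul_tmul, ← algebraMap_smul B c m,
          RingHom.mem_ker.1 hc, zero_smul, TensorProduct.tmul_zero]
      | zero => rw [TensorProduct.zero_tmul]
      | add a b _ _ ha hb => rw [TensorProduct.add_tmul, ha, hb, add_zero]
      | smul a b _ hb =>
        rw [← TensorProduct.smul_tmul', hb, smul_zero]
    | add a b ha hb => rw [map_add, ha, hb, add_zero]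
  exact ⟨(LinearEquiv.ofBijective g ⟨hgi, hgs⟩).trans (e.restrictScalars RP).symm⟩

/-- The criterion, for abstract rings. -/
theorem gor_iff_free [IsRegularLocalRing RP] [Nontrivial RB] [Module.Finite P B] [SMulCommClass B RP RB]
    (hs : Function.Surjective (algebraMap P B)) (hφ : Function.Surjective (algebraMap RP RB))
    (hφk : RingHom.ker (algebraMap RP RB) = (RingHom.ker (algebraMap P B)).map (algebraMap P RP))
    (d : ℕ) (hd : ringKrullDim RP = d) (c : ℕ) (hvan : ∀ i, i ≠ c → Subsingleton (E RP (RP ⊗[P] B) i))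
    (X : Type u) [AddCommGroup X] [Module B X] [Module P X] [IsScalarTower P B X]
    (ε : E RP (RP ⊗[P] B) c ≃ₗ[RP] RP ⊗[P] X) :
    LocCoh.IsGorensteinLocalRing RB ↔ Nonempty (RB ⊗[B] X ≃ₗ[RB] RB) := by
  obtain ⟨eB⟩ := nonempty_tensor_transfer (RP := RP) (RB := RB) hs hφ hφk B
  obtain ⟨eX⟩ := nonempty_tensor_transfer (RP := RP) (RB := RB) hs hφ hφk X
  let J : Ideal RP := RingHom.ker (algebraMap RP RB)
  have hJ : J ≠ ⊤ := RingHom.ker_ne_top _
  let eQ : (RP ⧸ J) ≃ₗ[RP] RB := (Algebra.linearMap RP RB).quotKerEquivOfSurjective hφ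
  let eM : RP ⊗[P] B ≃ₗ[RP] RP ⧸ J :=
    (eB.trans ((AlgebraTensorModule.rid B RB RB).restrictScalars RP)).trans eQ.symm
  let eR : RP ⧸ J ≃+* RB := RingHom.quotientKerEquivOfSurjective hφ
  have h1 : LocCoh.IsGorensteinLocalRing RB ↔ LocCoh.IsGorensteinLocalRing (RP ⧸ J) :=
    (Gor.FlatLocal.gorenstein_iff_of_ringEquiv eR).symm
  rw [h1, gor_iff_cyclic d hd _ J hJ eM c hvan]
  constructor
  · rintro ⟨e⟩
    exact ⟨LinearEquiv.extendScalarsOfSurjective hφ (eX.symm.trans ((ε.symm.trans e).trans eQ))⟩
  · rintro ⟨e⟩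
    exact ⟨ε.trans ((eX.trans (e.restrictScalars RP)).trans eQ.symm)⟩

end Transfer

section Fibres

variable (A : Type u) [CommRing A] (N : ℕ) (B : Type u) [CommRing B] [Algebra A B]
  [Algebra (MvPolynomial (Fin N) A) B] [IsScalarTower A (MvPolynomial (Fin N) A) B]

local notation "Pol" => MvPolynomial (Fin N) A
local notation "Fib" => EGA4.FibLocRing A (MvPolynomial (Fin N) A)
local notation "FibB" => EGA4.FibLocRing A B

/-- The criterion at one point. -/
theorem gor_fibLocRing_iff (hsurj : Function.Surjective (algebraMap Pol B)) (z : Ideal B) [z.IsPrime]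
    (q : Ideal Pol) [q.IsPrime] (hq : z.comap (algebraMap Pol B) = q) (c : ℕ)
    (hvan : ∀ i, i ≠ c → Subsingleton (FE A B q i))
    (X : Type u) [AddCommGroup X] [Module B X] [Module Pol X] [IsScalarTower Pol B X]
    (ε : FE A B q c ≃ₗ[Fib q] Fib q ⊗[Pol] X) :
    LocCoh.IsGorensteinLocalRing (FibB z) ↔ Nonempty (FibB z ⊗[B] X ≃ₗ[FibB z] FibB z) := by
  haveI := (regular_fib A N q).1
  obtain ⟨d, hd, -⟩ := (regular_fib A N q).2
  haveI := FibCodepth.isLocalRing_fibLocRing (A := A) z
  haveI : Module.Finite Pol B := Module.Finite.of_surjective (Algebra.linearMap Pol B) hsurj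
  obtain ⟨φ, hφ, hφc, hφk⟩ := FibCodepth.exists_fibLocRing_map (A := A) hsurj z q hq
  letI : Algebra (Fib q) (FibB z) := φ.toAlgebra
  haveI : IsScalarTower Pol (Fib q) (FibB z) :=
    IsScalarTower.of_algebraMap_eq (R := Pol) (S := Fib q) (A := FibB z) fun x =>
      (IsScalarTower.algebraMap_apply Pol B (FibB z) x).trans (hφc x).symm
  haveI : SMulCommClass B (Fib q) (FibB z) := ⟨fun b r x => (mul_smul_comm b (φ r) x).symm⟩
  exact gor_iff_free (RP := Fib q) (RB := FibB z) hsurj hφ hφk d hd c hvan X ε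

/-- Gorenstein fibre rings, in terms of local rings of fibres. -/
theorem gor_fibres_iff [Algebra.FiniteType A B] [IsNoetherianRing B] :
    (∀ p : PrimeSpectrum A, LocCoh.IsGorensteinRing (B ⊗[A] p.asIdeal.ResidueField)) ↔
      ∀ (z : Ideal B) [z.IsPrime], LocCoh.IsGorensteinLocalRing (FibB z) := by
  constructor
  · intro H z _
    let p := z.under A
    haveI : z.LiesOver p := ⟨rfl⟩
    obtain ⟨Q, hQ⟩ := RelDim.exists_over' p z
    obtain ⟨e⟩ := RelDim.nonempty_equiv_fibLocRing p z Q.asIdeal hQ
    have hF : LocCoh.IsGorensteinRing (p.Fiber B) := Gor.Ring.isGorensteinRing_of_ringEquiv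
      (Algebra.TensorProduct.comm A B p.ResidueField).toRingEquiv (H ⟨p, inferInstance⟩)
    exact (Gor.FlatLocal.gorenstein_iff_of_ringEquiv e).2 (hF.isGorensteinLocalRing_localization Q.asIdeal)
  · intro H p
    refine Gor.Ring.isGorensteinRing_of_ringEquiv
      (Algebra.TensorProduct.comm A B p.asIdeal.ResidueField).symm.toRingEquiv ?_
    haveI : IsNoetherianRing (p.asIdeal.Fiber B) := Gor.Ring.isNoetherianRing_fiber p.asIdeal
    refine { isGorensteinLocalRing_localization := fun Q _ => ?_ }
    let z : Ideal B := Q.comap Algebra.TensorProduct.includeRight.toRingHom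
    haveI : z.IsPrime := Ideal.comap_isPrime _ _
    haveI : z.LiesOver p.asIdeal := ⟨((congrArg PrimeSpectrum.asIdeal
      ((PrimeSpectrum.preimageOrderIsoFiber A B p).symm ⟨Q, inferInstance⟩).2)).symm⟩
    obtain ⟨e⟩ := RelDim.nonempty_equiv_fibLocRing p.asIdeal z Q rfl
    exact (Gor.FlatLocal.gorenstein_iff_of_ringEquiv e).1 (H z)

end Fibres

/-- A finite module, flat over the base, free of rank one on all fibres, is invertible. -/
theorem invertible_of_fib (A B X : Type u) [CommRing A] [CommRing B] [Algebra A B] [IsNoetherianRing B]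
    [AddCommGroup X] [Module B X] [Module A X] [IsScalarTower A B X] [Module.Finite B X] [Module.Flat A X]
    (h : ∀ (z : Ideal B) [z.IsPrime],
      Nonempty (EGA4.FibLocRing A B z ⊗[B] X ≃ₗ[EGA4.FibLocRing A B z] EGA4.FibLocRing A B z)) :
    Module.Invertible B X := by
  classical
  have hloc : ∀ (z : Ideal B) [z.IsMaximal], ∃ r ∉ z,
      Nonempty (LocalizedModule.Away r X ≃ₗ[Localization.Away r] Localization.Away r) := by
    intro z hz
    let L := Localization.AtPrime z
    let p : Ideal A := z.comap (algebraMap A B)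
    haveI : Module.Flat B L := IsLocalization.flat L z.primeCompl
    haveI : Module.Flat A (L ⊗[B] X) := FDesc.Stalk.flat_baseChange X
    haveI : IsNoetherianRing L := IsLocalization.isNoetherianRing z.primeCompl L inferInstance
    have hp : p.map (algebraMap A L) ≠ ⊤ := by
      refine fun hJ => (IsLocalRing.maximalIdeal.isMaximal L).ne_top (top_unique (hJ ▸ Ideal.map_le_iff_le_comap.2 fun a ha => ?_))
      rw [Ideal.mem_comap, IsScalarTower.algebraMap_apply A B L]
      exact (IsLocalization.AtPrime.to_map_mem_maximal_iff L z _).2 ha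
    have hinv : Module.Invertible (L ⧸ p.map (algebraMap A L)) ((L ⧸ p.map (algebraMap A L)) ⊗[L] (L ⊗[B] X)) :=
      Module.Invertible.congr ((AlgebraTensorModule.cancelBaseChange B L (L ⧸ p.map (algebraMap A L))
        (L ⧸ p.map (algebraMap A L)) X).trans (h z).some).symm
    obtain ⟨e⟩ := QFDLib.nonempty_equiv_of_fibre (A := A) (L := L) p hp hinv
    haveI : Module.FinitePresentation B X := Module.finitePresentation_of_finite B _
    obtain ⟨r, hr, l', -⟩ := Module.FinitePresentation.exists_lift_equiv_of_isLocalizedModule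
      (R := B) z.primeCompl (TensorProduct.mk B L X 1) (Algebra.linearMap B L) (e.restrictScalars B)
    exact ⟨r, hr, ⟨l'.trans (IsLocalizedModule.iso (Submonoid.powers r) (Algebra.linearMap B (Localization.Away r))
      |>.extendScalarsOfIsLocalization (Submonoid.powers r) (Localization.Away r))⟩⟩
  choose r hr hiso using fun z : {z : Ideal B // z.IsMaximal} => @hloc z.1 z.2
  refine S12080.result B X (Set.range r) ?_ (by rintro _ ⟨z, rfl⟩; exact hiso z)
  by_contra hne
  obtain ⟨m, hm, hle⟩ := Ideal.exists_le_maximal _ hne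
  exact hr ⟨m, hm⟩ (hle (Ideal.subset_span ⟨⟨m, hm⟩, rfl⟩))

/-- An invertible module is free of rank one on each fibre. -/
theorem nonempty_fib_of_invertible (A B X : Type u) [CommRing A] [CommRing B] [Algebra A B]
    [AddCommGroup X] [Module B X] [Module.Invertible B X] (z : Ideal B) [z.IsPrime] :
    Nonempty (EGA4.FibLocRing A B z ⊗[B] X ≃ₗ[EGA4.FibLocRing A B z] EGA4.FibLocRing A B z) := by
  haveI := FibCodepth.isLocalRing_fibLocRing (A := A) z
  exact Module.Invertible.free_iff_linearEquiv.1 inferInstance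

end Groth.Agent.CMExt
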