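import Groth.Agent.CMExt.Ext
import Groth.Agent.CMExt.DualBC
import Groth.Agent.FibCodepth.Fibre
import Groth.Agent.CAlgA.RelSyzygy
import Groth.Agent.FlatOpen.MapOpen
import Groth.Agent.FlatMor.FlatAtBC
import Groth.Agent.ExtVanish.Basic
import Mathlib.Algebra.Category.ModuleCat.ProjectiveDimension

/-!
# `Ext` into the ring of a relatively flat module is controlled by the fibres
-/

set_option autoImplicit false

universe u

open TensorProduct CategoryTheory

namespace Groth.Agent.CMExt

variable (A : Type u) [CommRing A] {R : Type u} [CommRing R] [Algebra A R]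

local notation "Fib" => EGA4.FibLocRing A R

instance isLocalRing_fib (q : Ideal R) [q.IsPrime] : IsLocalRing (Fib q) :=
  FibCodepth.isLocalRing_fibLocRing q

variable (R) in
/-- `Ext^i(M, R)` -/
abbrev E (M : Type u) [AddCommGroup M] [Module R M] (i : ℕ) : Type u :=
  Abelian.Ext (ModuleCat.of R M) (ModuleCat.of R R) i

/-- The fibre of the module at `q`. -/
abbrev FE (M : Type u) [AddCommGroup M] [Module R M] (q : Ideal R) [q.IsPrime] (i : ℕ) : Type u :=
  Abelian.Ext (ModuleCat.of (Fib q) (Fib q ⊗[R] M)) (ModuleCat.of (Fib q) (Fib q)) i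

/-- A map into the dual, on the fibre. -/
noncomputable def wS {K G : Type u} [AddCommGroup K] [Module R K] [AddCommGroup G] [Module R G]
    (w : G →ₗ[R] Module.Dual R K) (q : Ideal R) [q.IsPrime] :
    Fib q ⊗[R] G →ₗ[Fib q] Module.Dual (Fib q) (Fib q ⊗[R] K) :=
  psi (Fib q) K ∘ₗ w.baseChange (Fib q)

theorem flatRS {X Y : Type u} [AddCommGroup X] [Module R X] [Module A X] [IsScalarTower A R X]
    [AddCommGroup Y] [Module R Y] (e : X ≃ₗ[R] Y) [Module.Flat A X] :
    Module.Flat A (RestrictScalars A R Y) :=
  Module.Flat.of_linearEquiv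
    ({ toFun := fun y => e.symm (RestrictScalars.addEquiv A R Y y)
       invFun := fun x => (RestrictScalars.addEquiv A R Y).symm (e x)
       map_add' := fun y y' => by simp only [map_add]
       map_smul' := fun a y => by
        simp only [RingHom.id_apply]
        rw [RestrictScalars.addEquiv_map_smul, map_smul, algebraMap_smul]
       left_inv := fun y => by simp
       right_inv := fun x => by simp } : RestrictScalars A R Y ≃ₗ[A] X)

theorem flatRS_congr {X Y : Type u} [AddCommGroup X] [Module R X]
    [AddCommGroup Y] [Module R Y] (e : X ≃ₗ[R] Y) [Module.Flat A (RestrictScalars A R X)] :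
    Module.Flat A (RestrictScalars A R Y) :=
  Module.Flat.of_linearEquiv
    ({ toFun := fun y => (RestrictScalars.addEquiv A R X).symm (e.symm (RestrictScalars.addEquiv A R Y y))
       invFun := fun x => (RestrictScalars.addEquiv A R Y).symm (e (RestrictScalars.addEquiv A R X x))
       map_add' := fun y y' => by simp only [map_add]
       map_smul' := fun a y => by
        simp only [RingHom.id_apply]
        rw [RestrictScalars.addEquiv_map_smul, map_smul, RestrictScalars.addEquiv_symm_map_algebraMap_smul]
       left_inv := fun y => by simp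
       right_inv := fun x => by simp } : RestrictScalars A R Y ≃ₗ[A] RestrictScalars A R X)

/-- The fibre base change of an iso. -/
noncomputable def fibCongr {X Y : Type u} [AddCommGroup X] [Module R X] [AddCommGroup Y] [Module R Y]
    (e : X ≃ₗ[R] Y) (q : Ideal R) [q.IsPrime] : Fib q ⊗[R] X ≃ₗ[Fib q] Fib q ⊗[R] Y :=
  LinearEquiv.baseChange R (Fib q) X Y e

/-- the cokernel of a map into the dual of a projective commutes with base change -/
theorem nonempty_coker_fib {K G : Type u} [AddCommGroup K] [Module R K] [AddCommGroup G] [Module R G]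
    [Module.Projective R K] [Module.Finite R K] (w : G →ₗ[R] Module.Dual R K) (q : Ideal R) [q.IsPrime] :
    Nonempty ((Module.Dual (Fib q) (Fib q ⊗[R] K) ⧸ LinearMap.range (wS A w q)) ≃ₗ[Fib q]
      Fib q ⊗[R] (Module.Dual R K ⧸ LinearMap.range w)) := by
  let Ψ := LinearEquiv.ofBijective (psi (R := R) (Fib q) K) (bijective_psi (R := R) (Fib q) K)
  let θ := (LinearMap.range w).mkQ.baseChange (Fib q) ∘ₗ Ψ.symm.toLinearMap
  have hθ : Function.Surjective θ :=
    (surjective_baseChange (Fib q) (Submodule.mkQ_surjective _)).comp Ψ.symm.surjective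
  have hk : LinearMap.ker θ = LinearMap.range (wS A w q) := by
    have hex := exact_baseChange (Fib q) (LinearMap.exact_map_mkQ_range w) (Submodule.mkQ_surjective _)
    ext φ
    rw [LinearMap.mem_ker]
    refine (hex (Ψ.symm φ)).trans ⟨fun ⟨z, hz⟩ => ⟨z, ?_⟩, fun ⟨z, hz⟩ => ⟨z, ?_⟩⟩
    · change Ψ (w.baseChange (Fib q) z) = φ
      rw [hz, Ψ.apply_symm_apply]
    · rw [← hz]
      exact (Ψ.symm_apply_apply (w.baseChange (Fib q) z)).symm
  exact ⟨(Submodule.quotEquivOfEq _ _ hk.symm).trans (θ.quotKerEquivOfSurjective hθ)⟩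

/-- The state of the induction: what the fibres control. -/
structure Concl (K : Type u) [AddCommGroup K] [Module R K] [Module A K] [IsScalarTower A R K]
    {G : Type u} [AddCommGroup G] [Module R G] (w : G →ₗ[R] Module.Dual R K) (e : ℕ) : Prop where
  surj : 1 ≤ e → Function.Surjective w
  van : ∀ i, 1 ≤ i → i ≠ e → Subsingleton (E R K i)
  zero : e = 0 → Module.Flat A (Module.Dual R K ⧸ LinearMap.range w) ∧
    Module.FinitePresentation R (Module.Dual R K ⧸ LinearMap.range w) ∧
    ∀ (q : Ideal R) [q.IsPrime], Nonempty ((Module.Dual (Fib q) (Fib q ⊗[R] K) ⧸ LinearMap.range (wS A w q))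
      ≃ₗ[Fib q] Fib q ⊗[R] (Module.Dual R K ⧸ LinearMap.range w))
  top : 1 ≤ e → Module.Flat A (RestrictScalars A R (E R K e)) ∧ Module.FinitePresentation R (E R K e) ∧
    ∀ (q : Ideal R) [q.IsPrime], Nonempty (FE A K q e ≃ₗ[Fib q] Fib q ⊗[R] E R K e)

theorem projective_of_fib [Algebra.FinitePresentation A R] [Module.Flat A R] (K : Type u) [AddCommGroup K]
    [Module R K] [Module A K] [IsScalarTower A R K] [Module.FinitePresentation R K] [Module.Flat A K]
    (h : ∀ (q : Ideal R) [q.IsPrime],
      HasProjectiveDimensionLE (ModuleCat.of (Fib q) (Fib q ⊗[R] K)) 0) : Module.Projective R K := by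
  rw [← Module.freeLocus_eq_univ_iff, Set.eq_univ_iff_forall]
  intro x
  have := (RegLoc.PD.pd_zero_iff _).1 (h x.asIdeal)
  have : Module.Finite (Fib x.asIdeal) (Fib x.asIdeal ⊗[R] K) := inferInstance
  have : Module.Free (Fib x.asIdeal) (Fib x.asIdeal ⊗[R] K) := Module.free_of_flat_of_isLocalRing
  exact (FibCodepth.free_fib_iff (A := A) x.asIdeal (N := K)).1 this

theorem subsingleton_ext_of_projective {T : Type u} [CommRing T] (K : Type u) [AddCommGroup K] [Module T K]
    [Module.Projective T K] (i : ℕ) (hi : 1 ≤ i) : Subsingleton (E T K i) := by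
  obtain ⟨j, rfl⟩ := Nat.exists_eq_add_of_le' hi
  have : CategoryTheory.Projective (ModuleCat.of T K) := (IsProjective.iff_projective _).1 ‹_›
  exact subsingleton_of_forall_eq 0 fun x => Abelian.Ext.eq_zero_of_projective x

theorem forward [Algebra.FinitePresentation A R] [Module.Flat A R] (e : ℕ) :
    ∀ (K : Type u) [AddCommGroup K] [Module R K] [Module A K] [IsScalarTower A R K]
      [Module.FinitePresentation R K] [Module.Flat A K] (G : Type u) [AddCommGroup G] [Module R G]
      [Module.Finite R G] (w : G →ₗ[R] Module.Dual R K) (r : ℕ) (π : (Fin r → R) →ₗ[R] K),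
      Function.Surjective π → Module.FinitePresentation R (LinearMap.ker π) →
      Module.Flat A (Module.Dual R (Fin r → R) ⧸ LinearMap.range (π.dualMap ∘ₗ w)) →
      (∀ (q : Ideal R) [q.IsPrime], HasProjectiveDimensionLE (ModuleCat.of (Fib q) (Fib q ⊗[R] K)) e) →
      (∀ (q : Ideal R) [q.IsPrime] (i : ℕ), 1 ≤ i → i < e → Subsingleton (FE A K q i)) →
      (1 ≤ e → ∀ (q : Ideal R) [q.IsPrime], Function.Surjective (wS A w q)) → Concl A K w e := by
  induction e with
  | zero =>
    intro K _ _ _ _ _ _ G _ _ _ w r π hπ _ hC hpd _ _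
    have := projective_of_fib A K hpd
    obtain ⟨s, hs⟩ := Module.projective_lifting_property π LinearMap.id hπ
    refine ⟨fun h => absurd h (by omega), fun i hi _ => subsingleton_ext_of_projective K i hi,
      fun _ => ⟨?_, ?_, fun q _ => nonempty_coker_fib A w q⟩, fun h => absurd h (by omega)⟩
    · have hsd : s.dualMap ∘ₗ π.dualMap = LinearMap.id :=
        LinearMap.ext fun φ => LinearMap.ext fun m => congrArg φ (LinearMap.congr_fun hs m)
      let i : (Module.Dual R K ⧸ LinearMap.range w) →ₗ[R]
          (Module.Dual R (Fin r → R) ⧸ LinearMap.range (π.dualMap ∘ₗ w)) :=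
        Submodule.mapQ _ _ π.dualMap (by
          rintro _ ⟨z, rfl⟩
          exact ⟨z, rfl⟩)
      let p : (Module.Dual R (Fin r → R) ⧸ LinearMap.range (π.dualMap ∘ₗ w)) →ₗ[R]
          (Module.Dual R K ⧸ LinearMap.range w) :=
        Submodule.mapQ _ _ s.dualMap (by
          rintro _ ⟨z, rfl⟩
          exact ⟨z, (LinearMap.congr_fun hsd (w z)).symm⟩)
      refine Module.Flat.of_retract (i.restrictScalars A) (p.restrictScalars A) (LinearMap.ext fun x => ?_)
      obtain ⟨φ, rfl⟩ := Submodule.Quotient.mk_surjective _ x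
      exact congrArg Submodule.Quotient.mk (LinearMap.congr_fun hsd φ)
    · have := Module.finitePresentation_of_projective R (Module.Dual R K)
      exact Module.finitePresentation_of_surjective _ (Submodule.mkQ_surjective _) (by
        rw [Submodule.ker_mkQ, LinearMap.range_eq_map]
        exact (Module.Finite.fg_top).map _)
  | succ e ih =>
    intro K _ _ _ _ _ _ G _ _ _ w r π hπ hfk hC hpd hvan hsurj
    have : Module.Flat A (Fin r → R) := Module.Flat.trans A R _
    have hkflat : Module.Flat A (LinearMap.ker π) := CAlgA.RelSyzygy.flat_ker (π.restrictScalars A) hπ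
    obtain ⟨r', π', hπ', hfk'⟩ := CAlgA.RelSyzygy.exists_fp_syzygy A R (LinearMap.ker π)
    let ι : LinearMap.ker π →ₗ[R] (Fin r → R) := (LinearMap.ker π).subtype
    have hι : Function.Injective ι := Subtype.val_injective
    have hex : Function.Exact ι π := LinearMap.exact_subtype_ker_map π
    have hle : LinearMap.range (π.dualMap ∘ₗ w) ≤ LinearMap.ker (π'.dualMap ∘ₗ ι.dualMap) := by
      rintro _ ⟨z, rfl⟩
      refine LinearMap.mem_ker.2 (LinearMap.ext fun x => ?_)
      change w z (π (ι (π' x))) = 0
      rw [hex.apply_apply_eq_zero, map_zero]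
    let u := Submodule.liftQ _ _ hle
    have hrange : LinearMap.range u = LinearMap.range (π'.dualMap ∘ₗ ι.dualMap) := Submodule.range_liftQ _ _ _
    -- injectivity on the fibres
    have huS : ∀ (q : Ideal R) [q.IsPrime], Function.Injective (u.baseChange (Fib q)) := fun q _ => by
      refine (injective_iff_map_eq_zero _).2 fun x hx => ?_
      obtain ⟨y, rfl⟩ := surjective_baseChange (Fib q)
        (Submodule.mkQ_surjective (LinearMap.range (π.dualMap ∘ₗ w))) x
      rw [← LinearMap.comp_apply, ← LinearMap.baseChange_comp, Submodule.liftQ_mkQ, LinearMap.baseChange_comp,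
        LinearMap.comp_apply] at hx
      have h1 : (π'.baseChange (Fib q)).dualMap ((ι.baseChange (Fib q)).dualMap (psi (Fib q) _ y)) = 0 := by
        rw [← psi_natural_apply, ← psi_natural_apply, hx, map_zero]
      have h2 : (psi (Fib q) _ y) ∘ₗ ι.baseChange (Fib q) = 0 :=
        LinearMap.ext fun t => by
          obtain ⟨t, rfl⟩ := surjective_baseChange (Fib q) hπ' t
          exact LinearMap.congr_fun h1 t
      obtain ⟨φ₀, hφ₀⟩ : ∃ φ₀ : Module.Dual (Fib q) (Fib q ⊗[R] K),
          φ₀ ∘ₗ π.baseChange (Fib q) = psi (Fib q) _ y := by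
        have hle' : LinearMap.ker (π.baseChange (Fib q)) ≤ LinearMap.ker (psi (Fib q) _ y) := fun t ht => by
          obtain ⟨t, rfl⟩ := ((exact_baseChange (Fib q) hex hπ) t).1 ht
          exact LinearMap.congr_fun h2 t
        let eq := (π.baseChange (Fib q)).quotKerEquivOfSurjective (surjective_baseChange (Fib q) hπ)
        refine ⟨Submodule.liftQ _ _ hle' ∘ₗ eq.symm.toLinearMap, LinearMap.ext fun t => ?_⟩
        have : eq.symm (π.baseChange (Fib q) t) = Submodule.Quotient.mk t :=
          eq.injective ((eq.apply_symm_apply _).trans rfl)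
        simp only [LinearMap.comp_apply, LinearEquiv.coe_coe, this, Submodule.liftQ_apply]
      obtain ⟨z, rfl⟩ := hsurj (by omega) q φ₀
      have hy : y = (π.dualMap ∘ₗ w).baseChange (Fib q) z := by
        refine (bijective_psi (Fib q) (Fin r → R)).1 (hφ₀.symm.trans ?_)
        rw [LinearMap.baseChange_comp, LinearMap.comp_apply, psi_natural_apply]
        rfl
      rw [hy]
      exact (exact_baseChange (Fib q) (LinearMap.exact_map_mkQ_range _) (Submodule.mkQ_surjective _)).apply_apply_eq_zero z
    have : Module.FinitePresentation R (Module.Dual R (Fin r' → R)) := Module.finitePresentation_of_projective _ _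
    have : Module.FinitePresentation R (Module.Dual R (Fin r → R)) := Module.finitePresentation_of_projective _ _
    have : Module.FinitePresentation R (Module.Dual R (Fin r → R) ⧸ LinearMap.range (π.dualMap ∘ₗ w)) :=
      Module.finitePresentation_of_surjective _ (Submodule.mkQ_surjective _) (by
        rw [Submodule.ker_mkQ, LinearMap.range_eq_map]
        exact (Module.Finite.fg_top).map _)
    have : Module.Flat A (Module.Dual R (Fin r' → R)) := Module.Flat.trans A R _
    have key : ∀ (Q : Ideal R) [Q.IsPrime],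
        FlatCA.FlatAt A Q (Module.Dual R (Fin r' → R) ⧸ LinearMap.range u) ∧
          ∀ m, u m = 0 → ∃ s ∉ Q, s • m = 0 := fun Q _ =>
      FlatOpen.injective_coker_flat_of_fibEq A R u Q
        (FlatMor.FlatAtBC.flat_localizedModule A Q.primeCompl _) fun m hm => by
        refine exists_smul_mem Q m (huS Q (a₂ := 0) ?_)
        rw [map_zero, LinearMap.baseChange_tmul]
        refine Submodule.smul_induction_on (p := fun y => (1 : Fib Q) ⊗ₜ[R] y = 0) hm (fun a ha y _ => ?_)
          (fun y y' hy hy' => by rw [TensorProduct.tmul_add, hy, hy', add_zero])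
        rw [← TensorProduct.smul_tmul, ← Algebra.algebraMap_eq_smul_one]
        rw [show algebraMap R (Fib Q) a = 0 from Ideal.Quotient.eq_zero_iff_mem.2 (by
          rw [IsScalarTower.algebraMap_eq A R (Localization.AtPrime Q), ← Ideal.map_map]
          exact Ideal.mem_map_of_mem _ ha), TensorProduct.zero_tmul]
    have huinj : Function.Injective u := (injective_iff_map_eq_zero u).2 fun m hm => by
      by_contra hne
      obtain ⟨Q, hQ, hle⟩ := Ideal.exists_le_maximal (Submodule.colon (⊥ : Submodule R _) {m})
        (by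
          rw [Ne, Ideal.eq_top_iff_one, Submodule.mem_colon_singleton, one_smul, Submodule.mem_bot]
          exact hne)
      obtain ⟨s, hs, hsm⟩ := (key Q).2 m hm
      exact hs (hle (Submodule.mem_colon_singleton.2 ((Submodule.mem_bot R).2 hsm)))
    have hflat' : Module.Flat A (Module.Dual R (Fin r' → R) ⧸ LinearMap.range (π'.dualMap ∘ₗ ι.dualMap)) := by
      have : Module.Flat A (Module.Dual R (Fin r' → R) ⧸ LinearMap.range u) :=
        FlatOpen.flat_of_forall_flatAt fun Q _ => (key Q).1
      exact Module.Flat.of_linearEquiv ((Submodule.quotEquivOfEq _ _ hrange).restrictScalars A).symm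
    have hSι : ∀ (q : Ideal R) [q.IsPrime], Function.Injective (ι.baseChange (Fib q)) := fun q _ =>
      FibCodepth.lTensor_fib_injective (A := A) q ι hι π hex hπ
    have hS1 : ∀ (q : Ideal R) [q.IsPrime], Nonempty
        ((Module.Dual (Fib q) (Fib q ⊗[R] LinearMap.ker π) ⧸ LinearMap.range (ι.baseChange (Fib q)).dualMap)
          ≃ₗ[Fib q] FE A K q 1) := fun q _ =>
      nonempty_extOne (hSι q) (surjective_baseChange (Fib q) hπ) (exact_baseChange (Fib q) hex hπ)
    have hwS : ∀ (q : Ideal R) [q.IsPrime],
        LinearMap.range (wS A ι.dualMap q) = LinearMap.range (ι.baseChange (Fib q)).dualMap := fun q _ => by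
      rw [wS, psi_natural, LinearMap.range_comp, LinearMap.range_eq_top.2 (bijective_psi (Fib q) _).2,
        ← LinearMap.range_eq_map]
    have C' := ih (LinearMap.ker π) (Module.Dual R (Fin r → R)) ι.dualMap r' π' hπ' hfk' hflat'
      (fun q _ => (FibCodepth.pd_fib_shift (A := A) q π hπ e).1 (hpd q))
      (fun q _ i hi hie => by
        obtain ⟨j, rfl⟩ := Nat.exists_eq_add_of_le' hi
        obtain ⟨ε⟩ := nonempty_extShift (hSι q) (surjective_baseChange (Fib q) hπ)
          (exact_baseChange (Fib q) hex hπ) j
        have := hvan q (j + 2) (by omega) (by omega)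
        exact ε.toEquiv.subsingleton)
      (fun he q _ => by
        rw [← LinearMap.range_eq_top, hwS, ← Submodule.Quotient.subsingleton_iff]
        obtain ⟨ε⟩ := hS1 q
        have := hvan q 1 le_rfl (by omega)
        exact ε.toEquiv.subsingleton)
    obtain ⟨ε1⟩ := nonempty_extOne hι hπ hex
    refine ⟨fun _ φ₀ => ?_, fun i hi hie => ?_, fun h => absurd h (by omega), fun _ => ?_⟩
    · have h0 : u (Submodule.Quotient.mk (π.dualMap φ₀)) = 0 := LinearMap.ext fun x => by
        change φ₀ (π (ι (π' x))) = 0
        rw [hex.apply_apply_eq_zero, map_zero]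
      obtain ⟨z, hz⟩ := (Submodule.Quotient.mk_eq_zero _).1 ((injective_iff_map_eq_zero u).1 huinj _ h0)
      refine ⟨z, LinearMap.ext fun x => ?_⟩
      obtain ⟨y, rfl⟩ := hπ x
      exact LinearMap.congr_fun hz y
    · rcases Nat.lt_or_ge i 2 with h | h
      · obtain rfl : i = 1 := by omega
        have : Subsingleton (Module.Dual R (LinearMap.ker π) ⧸ LinearMap.range ι.dualMap) := by
          rw [Submodule.Quotient.subsingleton_iff, LinearMap.range_eq_top]
          exact C'.surj (by omega)
        exact ε1.symm.toEquiv.subsingleton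
      · obtain ⟨j, rfl⟩ := Nat.exists_eq_add_of_le' h
        obtain ⟨ε⟩ := nonempty_extShift hι hπ hex j
        have := C'.van (j + 1) (by omega) (by omega)
        exact ε.symm.toEquiv.subsingleton
    · rcases Nat.eq_zero_or_pos e with rfl | he
      · obtain ⟨h1, h2, h3⟩ := C'.zero rfl
        refine ⟨flatRS A ε1, Module.FinitePresentation.of_equiv ε1, fun q _ => ?_⟩
        obtain ⟨εS⟩ := hS1 q
        obtain ⟨εb⟩ := h3 q
        exact ⟨εS.symm.trans ((Submodule.quotEquivOfEq _ _ (hwS q).symm).trans
          (εb.trans (fibCongr A ε1 q)))⟩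
      · obtain ⟨j, rfl⟩ := Nat.exists_eq_add_of_le' he
        obtain ⟨h1, h2, h3⟩ := C'.top (by omega)
        obtain ⟨ε⟩ := nonempty_extShift hι hπ hex j
        refine ⟨?_, Module.FinitePresentation.of_equiv ε, fun q _ => ?_⟩
        · exact flatRS_congr A ε
        · obtain ⟨εS⟩ := nonempty_extShift (hSι q) (surjective_baseChange (Fib q) hπ)
            (exact_baseChange (Fib q) hex hπ) j
          obtain ⟨εb⟩ := h3 q
          exact ⟨εS.symm.trans (εb.trans (fibCongr A ε q))⟩

end Groth.Agent.CMExt
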