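import Groth.Agent.CMExt.Back
import Groth.Agent.CMExt.Field

/-!
# The affine-space case
-/

set_option autoImplicit false

universe u

open TensorProduct CategoryTheory

namespace Groth.Agent.CMExt

variable (A : Type u) [CommRing A] (N : ℕ) (I : Ideal (MvPolynomial (Fin N) A))

local notation "Pol" => MvPolynomial (Fin N) A
local notation "Fib" => EGA4.FibLocRing A (MvPolynomial (Fin N) A)

theorem finitePresentation_quot (hI : I.FG) : Module.FinitePresentation Pol (Pol ⧸ I) :=
  Module.finitePresentation_of_surjective I.mkQ (Submodule.mkQ_surjective I) (by rwa [Submodule.ker_mkQ])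

theorem pd_fib_poly (q : Ideal Pol) [q.IsPrime] (M : Type u) [AddCommGroup M] [Module Pol M] :
    HasProjectiveDimensionLE (ModuleCat.of (Fib q) (Fib q ⊗[Pol] M)) N := by
  obtain ⟨hreg, d, hd, hdN⟩ := regular_fib A N q
  have := RegLoc.Homological.pd_le_dim hd (Fib q ⊗[Pol] M)
  exact hasProjectiveDimensionLT_of_ge _ (d + 1) (N + 1) (by omega)

end Groth.Agent.CMExt
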